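import Cfsg.Agent.H15.NS.He.D0

/-! Generated by tools/h15/ns/gen.py (kit tools/h0/tr). -/

set_option maxRecDepth 100000
set_option maxHeartbeats 0

namespace H15.NS.He
open H16 H0.TR
open scoped commutatorElement

theorem cl34_0 : allZ (clEnt (wdsP (wdsP P mW) n3e_W) (catP (wdsP P wG) 55 (wdsP P uW)) 101 (55 + 47) B cl34L en33W) (nat_lit 0) (nat_lit 16) = true := by decide +kernel
theorem lnk_0 : allZ (lnkEnt (wdsP (wdsP P mW) wW) (wdsP P wG) B) (nat_lit 0) (nat_lit 55) = true := by decide +kernel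
theorem cl61_0 : allZ (clEnt cle_Q (wdsP Tm wW) 55 56 B1 cl61L en60W) (nat_lit 0) (nat_lit 512) = true := by decide +kernel
theorem en60a_a : allZ2 (tupEnt cle_Q en60T en60N (nat_lit 714) (nat_lit 512) (nat_lit 4)) (nat_lit 9) (nat_lit 512) = true := by decide +kernel
theorem le43_0 : allZ (leEnt (pk (catP (wdsP P wG) 55 (wdsP P uW)) [0, 84, 85]) P 3 B le43W) (nat_lit 0) (nat_lit 11) = true := by decide +kernel
theorem en60b_0 : allZ (enEnt cle_Q en60T en60W (nat_lit 4)) (nat_lit 0) (nat_lit 512) = true := by decide +kernel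
theorem cle_q_a : allZ2 (matEnt cle_P cle_Q) (nat_lit 9) (nat_lit 714) = true := by decide +kernel
theorem cl17_0 : allZ (clEnt (wdsP (wdsP P mW) bwe_W) (catP (wdsP P wG) 55 (wdsP P uW)) 101 (55 + 47) B cl17L en16W) (nat_lit 0) (nat_lit 8) = true := by decide +kernel
theorem t_r_a : allZ2 (resEnt t_P tP tE tI (nat_lit 714) (nat_lit 336)) (nat_lit 11) (nat_lit 336) = true := by decide +kernel
theorem cl11_0 : allZ (clEnt (wdsP (wdsP P mW) bzpe_W) (catP (wdsP P wG) 55 (wdsP P uW)) 101 (55 + 47) B cl11L en10W) (nat_lit 0) (nat_lit 8) = true := by decide +kernel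
theorem t_p : allZ2 (pcEnt tP (nat_lit 2) tB tC) 11 11 = true := by decide +kernel
theorem co65_0 : allZ (comEnt (pk (catP (wdsP P wG) 55 (wdsP P uW)) [100, 49]) (pk (catP (wdsP P wG) 55 (wdsP P uW)) [100, 49]) 2 B co65U co65V) (nat_lit 0) (nat_lit 2) = true := by decide +kernel
theorem rv1_q_a : allZ2 (matEnt rv1_P rv1_Q) (nat_lit 4) (nat_lit 714) = true := by decide +kernel
theorem cjk_0 : allZ (cjEnt cj_P (wdsP (wdsP P mW) covr_W) (pk (catP (wdsP P wG) 55 (wdsP P uW)) [0, 3, 54, 54]) 4 B [nat_lit 1, nat_lit 0, nat_lit 1, nat_lit 0, nat_lit 0, nat_lit 0, nat_lit 2, nat_lit 2]) (nat_lit 0) (nat_lit 8) = true := by decide +kernel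
theorem nvk_0 : allZ (cllEnt gle_P (catP (wdsP P wG) 55 (wdsP P uW)) 101 (55 + 47) B [(true, [nat_lit 48, nat_lit 101], [nat_lit 101, nat_lit 48]), (true, [nat_lit 48, nat_lit 101], [nat_lit 101, nat_lit 48, nat_lit 3])]) (nat_lit 0) (nat_lit 10) = true := by decide +kernel
theorem rv0_q_a : allZ2 (matEnt rv0_P rv0_Q) (nat_lit 4) (nat_lit 714) = true := by decide +kernel
theorem le52_0 : allZ (leEnt (pk (catP (wdsP P wG) 55 (wdsP P uW)) [44, 45, 91]) (pk (catP (wdsP P wG) 55 (wdsP P uW)) [0, 84, 85]) 3 B le52W) (nat_lit 0) (nat_lit 3) = true := by decide +kernel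
theorem le53_0 : allZ (leEnt (pk (catP (wdsP P wG) 55 (wdsP P uW)) [46, 47, 92]) (pk (catP (wdsP P wG) 55 (wdsP P uW)) [0, 84, 85]) 3 B le53W) (nat_lit 0) (nat_lit 3) = true := by decide +kernel
theorem rG0k : H16.allL (litChk (catP (wdsP P wG) 55 (wdsP P uW)) (55 + 47) B) [(true, [nat_lit 0, nat_lit 55], [nat_lit 55, nat_lit 1]), (true, [nat_lit 1, nat_lit 55], [nat_lit 55, nat_lit 1, nat_lit 0]), (true, [nat_lit 1, nat_lit 58], [nat_lit 58, nat_lit 1]), (true, [nat_lit 1, nat_lit 59], [nat_lit 59, nat_lit 1]), (true, [nat_lit 1, nat_lit 57], [nat_lit 57, nat_lit 1]), (true, [nat_lit 7, nat_lit 57], [nat_lit 57, nat_lit 7]), (true, [nat_lit 0, nat_lit 58], [nat_lit 58, nat_lit 7]), (true, [nat_lit 0, nat_lit 59], [nat_lit 59, nat_lit 7, nat_lit 0]), (true, [nat_lit 0, nat_lit 57], [nat_lit 57, nat_lit 1, nat_lit 0]), (true, [nat_lit 0, nat_lit 56], [nat_lit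 56, nat_lit 2]), (true, [nat_lit 2, nat_lit 56], [nat_lit 56, nat_lit 2, nat_lit 0]), (true, [nat_lit 2, nat_lit 61], [nat_lit 61, nat_lit 2]), (true, [nat_lit 2, nat_lit 62], [nat_lit 62, nat_lit 2]), (true, [nat_lit 2, nat_lit 60], [nat_lit 60, nat_lit 2]), (true, [nat_lit 8, nat_lit 60], [nat_lit 60, nat_lit 8]), (true, [nat_lit 0, nat_lit 61], [nat_lit 61, nat_lit 8])] = true := by decide +kernel
theorem rG1k : H16.allL (litChk (catP (wdsP P wG) 55 (wdsP P uW)) (55 + 47) B) [(true, [nat_lit 0, nat_lit 62], [nat_lit 62, nat_lit 8, nat_lit 0]), (true, [nat_lit 0, nat_lit 60], [nat_lit 60, nat_lit 2, nat_lit 0]), (true, [nat_lit 0, nat_lit 63], [nat_lit 63, nat_lit 9]), (true, [nat_lit 9, nat_lit 63], [nat_lit 63, nat_lit 9, nat_lit 0]), (true, [nat_lit 11, nat_lit 63], [nat_lit 63, nat_lit 11]), (true, [nat_lit 0, nat_lit 66], [nat_lit 66, nat_lit 11]), (true,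 [nat_lit 2, nat_lit 66], [nat_lit 66, nat_lit 9]), (true, [nat_lit 0, nat_lit 67], [nat_lit 67, nat_lit 11]), (true, [nat_lit 2, nat_lit 67], [nat_lit 67, nat_lit 10]), (true, [nat_lit 0, nat_lit 64], [nat_lit 64, nat_lit 10]), (true, [nat_lit 9, nat_lit 64], [nat_lit 64, nat_lit 12]), (true, [nat_lit 0, nat_lit 65], [nat_lit 65, nat_lit 9]), (true, [nat_lit 9, nat_lit 65], [nat_lit 65, nat_lit 12]), (true, [nat_lit 11, nat_lit 64], [nat_lit 64, nat_lit 14]), (true, [nat_lit 11, nat_lit 65], [nat_lit 65, nat_lit 15]), (true, [nat_lit 0, nat_lit 68], [nat_lit 68, nat_lit 18])] = true := by decide +kernel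
theorem rG2k : H16.allL (litChk (catP (wdsP P wG) 55 (wdsP P uW)) (55 + 47) B) [(true, [nat_lit 18, nat_lit 68], [nat_lit 68, nat_lit 18, nat_lit 0]), (true, [nat_lit 20, nat_lit 68], [nat_lit 68, nat_lit 20]), (true, [nat_lit 0, nat_lit 71], [nat_lit 71, nat_lit 20]), (true, [nat_lit 1, nat_lit 71], [nat_lit 71, nat_lit 18]), (true, [nat_lit 0, nat_lit 72], [nat_lit 72, nat_lit 20]), (true, [nat_lit 1, nat_lit 72], [nat_lit 72, nat_lit 19]), (true, [nat_lit 0, nat_lit 69], [nat_lit 69, nat_lit 19]), (true, [nat_lit 18, nat_lit 69], [nat_lit 69, nat_lit 21]), (true, [nat_lit 0, nat_lit 70], [nat_lit 70, nat_lit 18]), (true, [nat_lit 18, nat_lit 70], [nat_lit 70, nat_lit 21]), (true, [nat_lit 20, nat_lit 69], [nat_lit 69, nat_lit 23]), (true, [nat_lit 20, nat_lit 70], [nat_lit 70, nat_lit 24]), (true, [nat_lit 27, nat_lit 74], [nat_lit 74, nat_lit 27]), (true,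 [nat_lit 27, nat_lit 75], [nat_lit 75, nat_lit 27]), (true, [nat_lit 15, nat_lit 74], [nat_lit 74, nat_lit 73]), (true, [nat_lit 15, nat_lit 75], [nat_lit 75, nat_lit 73, nat_lit 15])] = true := by decide +kernel
theorem rG4k : H16.allL (litChk (catP (wdsP P wG) 55 (wdsP P uW)) (55 + 47) B) [(true, [nat_lit 80, nat_lit 90], [nat_lit 90, nat_lit 85]), (true, [nat_lit 0, nat_lit 86], [nat_lit 86, nat_lit 84]), (true, [nat_lit 0, nat_lit 87], [nat_lit 87, nat_lit 85]), (true, [nat_lit 36, nat_lit 91], [nat_lit 91, nat_lit 36]), (true, [nat_lit 37, nat_lit 92], [nat_lit 92, nat_lit 37]), (true, [nat_lit 54, nat_lit 93], [nat_lit 93, nat_lit 54]), (true, [nat_lit 54, nat_lit 94], [nat_lit 94, nat_lit 54]), (true, [nat_lit 93, nat_lit 94, nat_lit 54, nat_lit 95, nat_lit 54], [nat_lit 94, nat_lit 93, nat_lit 95]), (true, [nat_lit 3, nat_lit 96], [nat_lit 96, nat_lit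 3]), (true, [nat_lit 3, nat_lit 97], [nat_lit 97, nat_lit 3]), (true, [nat_lit 0, nat_lit 96], [nat_lit 96, nat_lit 22]), (true, [nat_lit 0, nat_lit 97], [nat_lit 97, nat_lit 22, nat_lit 0]), (true, [nat_lit 3, nat_lit 99], [nat_lit 99, nat_lit 0, nat_lit 3]), (true, [nat_lit 3, nat_lit 98], [nat_lit 98, nat_lit 3]), (true, [nat_lit 98, nat_lit 98], []), (true, [nat_lit 48, nat_lit 98], [nat_lit 98, nat_lit 48, nat_lit 3])] = true := by decide +kernel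
theorem le57_0 : allZ (leEnt (pk (catP (wdsP P wG) 55 (wdsP P uW)) [93, 94, 95]) (pk (catP (wdsP P wG) 55 (wdsP P uW)) [0, 84, 85]) 3 B le57W) (nat_lit 0) (nat_lit 3) = true := by decide +kernel
theorem rG3k : H16.allL (litChk (catP (wdsP P wG) 55 (wdsP P uW)) (55 + 47) B) [(true, [nat_lit 0, nat_lit 77], [nat_lit 77, nat_lit 15]), (true, [nat_lit 9, nat_lit 77], [nat_lit 77, nat_lit 73]), (true, [nat_lit 74, nat_lit 74], []), (true, [nat_lit 76, nat_lit 75], []), (true, [nat_lit 78, nat_lit 79, nat_lit 78], [nat_lit 80]), (true, [nat_lit 27, nat_lit 81], [nat_lit 81, nat_lit 0]), (true, [nat_lit 15, nat_lit 81], [nat_lit 81, nat_lit 78]), (true, [nat_lit 27, nat_lit 82], [nat_lit 82, nat_lit 79]), (true, [nat_lit 15, nat_lit 82], [nat_lit 82, nat_lit 0]), (true, [nat_lit 27, nat_lit 83], [nat_lit 83, nat_lit 78]), (true, [nat_lit 15, nat_lit 83], [nat_lit 83,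 nat_lit 79]), (true, [nat_lit 27, nat_lit 88], [nat_lit 88, nat_lit 84]), (true, [nat_lit 15, nat_lit 88], [nat_lit 88, nat_lit 0]), (true, [nat_lit 0, nat_lit 89], [nat_lit 89, nat_lit 85]), (true, [nat_lit 80, nat_lit 89], [nat_lit 89, nat_lit 0]), (true, [nat_lit 0, nat_lit 90], [nat_lit 90, nat_lit 84])] = true := by decide +kernel
theorem cl51_0 : allZ (clEnt cne_P (wdsP Tm wW) 55 56 B1 cl51L en50W) (nat_lit 0) (nat_lit 16) = true := by decide +kernel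
theorem cov_c0 : (Nat.ble 11 11 && Nat.beq (ltAll 11 []) 0 && Nat.beq (covT0.chk Tm tP covr_P tE 6 11 2 2 8 tB 11 [] 0) 0) = true := by decide +kernel
theorem cqtn0_1_0 : allZ (cqtn0.ent Tm cqth_P rq_P rq_P cqe_P (nat_lit 6) (nat_lit 6) B1 cqtl0 [cqtl1, cqtl2, cqtl3] (memO cqc0)) (nat_lit 0) (nat_lit 672) = true := by decide +kernel
theorem wzptn0_1_0 : allZ (wzptn0.ent Tm wzpth_P wzpx_P wzpx_P wzpe_P (nat_lit 6) (nat_lit 3) B1 wzptl0 [wzptl1, wzptl2, wzptl3] (memO wzpc0)) (nat_lit 0) (nat_lit 672) = true := by decide +kernel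
theorem wb1tn0_1_0 : allZ (wb1tn0.ent Tm wb1th_P wb1x_P wb1x_P wb1e_P (nat_lit 6) (nat_lit 4) B1 wb1tl0 [wb1tl1, wb1tl2, wb1tl3] (memO wb1c0)) (nat_lit 0) (nat_lit 672) = true := by decide +kernel
theorem wwtn0_1_0 : allZ (wwtn0.ent Tm wwth_P wwx_P wwx_P wwe_P (nat_lit 6) (nat_lit 3) B1 wwtl0 [wwtl1, wwtl2] (memO wwc0)) (nat_lit 0) (nat_lit 672) = true := by decide +kernel
theorem zltn0_1_0 : allZ (zltn0.ent Tm zlth_P zlx_P zlx_P zle_P (nat_lit 6) (nat_lit 9) B1 zltl0 [zltl1, zltl2, zltl3] (memO zlc0)) (nat_lit 0) (nat_lit 672) = true := by decide +kernel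
theorem cktn0_1_0 : allZ (cktn0.ent Tm ckth_P ckx_P ckx_P cke_P (nat_lit 6) (nat_lit 2) B1 cktl0 [cktl1] (memO ckc0)) (nat_lit 0) (nat_lit 672) = true := by decide +kernel
theorem cttn0_1_0 : allZ (cttn0.ent Tm ctth_P ctx_P ctx_P cte_P (nat_lit 6) (nat_lit 4) B1 cttl0 [cttl1, cttl2] (memO ctc0)) (nat_lit 0) (nat_lit 672) = true := by decide +kernel
theorem n3tn1_1_0 : allZ (n3tn1.ent Tm n3th_P n3x_P n3x_P n3e_P (nat_lit 6) (nat_lit 6) B1 n3tl0 [n3tl1, n3tl2, n3tl3, n3tl4] (memO n3c0)) (nat_lit 0) (nat_lit 672) = true := by decide +kernel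
theorem elk : H16.allL (litChk t_P 11 B1) [(true, [nat_lit 0, nat_lit 0], []), (true, [nat_lit 1, nat_lit 1], [])] = true := by decide +kernel
theorem cl77b : H16.allL (litChk (pk (wdsP Tm wW) [4, 50, 1, 2, 51, 51]) 6 B1) (cl77A.map fun l => (!l.1, l.2)) = true := by decide +kernel
theorem cl81b : H16.allL (litChk (pk (wdsP Tm wW) [4, 50, 1, 2, 11, 11]) 6 B1) (cl81A.map fun l => (!l.1, l.2)) = true := by decide +kernel
theorem wb1tl0_e_0 : allZ (dent wb1tl0 wb1th_P (nat_lit 714)) (nat_lit 0) (nat_lit 671) = true := by decide +kernel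
theorem n3tl0_e_0 : allZ (dent n3tl0 n3th_P (nat_lit 714)) (nat_lit 0) (nat_lit 671) = true := by decide +kernel
theorem zltl0_e_0 : allZ (dent zltl0 zlth_P (nat_lit 714)) (nat_lit 0) (nat_lit 671) = true := by decide +kernel
theorem cttl0_e_0 : allZ (dent cttl0 ctth_P (nat_lit 714)) (nat_lit 0) (nat_lit 671) = true := by decide +kernel
theorem cqtl0_e_0 : allZ (dent cqtl0 cqth_P (nat_lit 714)) (nat_lit 0) (nat_lit 671) = true := by decide +kernel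
theorem cktl0_e_0 : allZ (dent cktl0 ckth_P (nat_lit 714)) (nat_lit 0) (nat_lit 671) = true := by decide +kernel
theorem wwtl0_e_0 : allZ (dent wwtl0 wwth_P (nat_lit 714)) (nat_lit 0) (nat_lit 671) = true := by decide +kernel
theorem wzptl0_e_0 : allZ (dent wzptl0 wzpth_P (nat_lit 714)) (nat_lit 0) (nat_lit 671) = true := by decide +kernel
theorem cm91 : 1 < 47 ∧ allZ (fun j => H16.force j (cmEnt (wdsP (wdsP P mW) pf_W) (wdsP P uW) B 1)) 0 1 = true := by decide +kernel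
theorem cm90 : 0 < 47 ∧ allZ (fun j => H16.force j (cmEnt (wdsP (wdsP P mW) pf_W) (wdsP P uW) B 0)) 0 1 = true := by decide +kernel
theorem cl81_0 : allZ (clEnt rv1_Q (pk (wdsP Tm wW) [4, 50, 1, 2, 11, 11]) 4 6 B1 cl81L en80W) (nat_lit 0) (nat_lit 16) = true := by decide +kernel
theorem cl77_0 : allZ (clEnt rv0_Q (pk (wdsP Tm wW) [4, 50, 1, 2, 51, 51]) 4 6 B1 cl77L en76W) (nat_lit 0) (nat_lit 16) = true := by decide +kernel
theorem cl72_0 : allZ (clEnt cpe_P (wdsP Tm wW) 55 56 B1 cl72L en71W) (nat_lit 0) (nat_lit 24) = true := by decide +kernel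
theorem ns74_a : allZ2 (nrmEnt rq_P Tm (nat_lit 6) B1 ns74W) (nat_lit 5) (nat_lit 6) = true := by decide +kernel
theorem en71a_a : allZ2 (tupEnt cpe_P en71T en71N (nat_lit 714) (nat_lit 24) (nat_lit 4)) (nat_lit 4) (nat_lit 24) = true := by decide +kernel
theorem cl27_0 : allZ (clEnt wb2e_P (wdsP Tm wW) 55 56 B1 cl27L en26W) (nat_lit 0) (nat_lit 8) = true := by decide +kernel
theorem cl20_0 : allZ (clEnt wb1e_P (wdsP Tm wW) 55 56 B1 cl20L en19W) (nat_lit 0) (nat_lit 8) = true := by decide +kernel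
theorem en50a_a : allZ2 (tupEnt cne_P en50T en50N (nat_lit 714) (nat_lit 16) (nat_lit 4)) (nat_lit 4) (nat_lit 16) = true := by decide +kernel
theorem en33a_a : allZ2 (tupEnt n3e_P en33T en33N (nat_lit 714) (nat_lit 16) (nat_lit 4)) (nat_lit 4) (nat_lit 16) = true := by decide +kernel
theorem en71b_0 : allZ (enEnt cpe_P en71T en71W (nat_lit 4)) (nat_lit 0) (nat_lit 24) = true := by decide +kernel
theorem ns79_a : allZ2 (nrmEnt rv1_P Tm (nat_lit 4) B1 ns79W) (nat_lit 5) (nat_lit 4) = true := by decide +kernel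
theorem n3tn1_0 : (Nat.ble n3tl0.K 13 && Nat.beq (ltAll 714 []) 0 && kChk n3e_P n3x_P n3tn1.Kn 6 B1 [] && H16.allL (ltAll 6) n3tn1.pre && planOK n3th_P n3x_P 6 (n3tl0.Pt 0) n3tn1.plan [n3tl0, n3tl1, n3tl2, n3tl3, n3tl4]) = true := by decide +kernel
theorem n3_f0 : (Nat.ble n3c0.K 4 && Nat.ble (topK [n3c3]) n3c0.K && Nat.beq (n3c0.Pt 0) (n3tl0.Pt 0) && Nat.beq (ltAll 714 []) 0 && kChk n3e_P n3x_P n3c0.K 6 B1 []) = true := by decide +kernel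
theorem le85_0 : allZ (leEnt (pk (wdsP Tm wW) [1, 2, 51, 11, 4]) rq_P 5 B1 le85W) (nat_lit 0) (nat_lit 6) = true := by decide +kernel
theorem rL1k : H16.allL (litChk (wdsP Tm wW) 56 B1) [(true, [nat_lit 2, nat_lit 17], [nat_lit 17, nat_lit 13]), (true, [nat_lit 0, nat_lit 15], [nat_lit 15, nat_lit 0]), (false, [nat_lit 14, nat_lit 11], [nat_lit 15]), (true, [nat_lit 0, nat_lit 18], [nat_lit 18, nat_lit 0]), (true, [nat_lit 18, nat_lit 20], [nat_lit 20, nat_lit 18]), (true, [nat_lit 20, nat_lit 20], []), (true, [nat_lit 18, nat_lit 0], [nat_lit 19]), (true, [nat_lit 0, nat_lit 25], [nat_lit 25, nat_lit 0]), (true, [nat_lit 1, nat_lit 25], [nat_lit 25, nat_lit 20]), (true, [nat_lit 21, nat_lit 18], [nat_lit 22]), (true, [nat_lit 0, nat_lit 26], [nat_lit 26, nat_lit 0]), (true, [nat_lit 1, nat_lit 26], [nat_lit 26, nat_lit 22]), (true, [nat_lit 0, nat_lit 24], [nat_lit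 24, nat_lit 0]), (false, [nat_lit 23, nat_lit 20], [nat_lit 24]), (true, [nat_lit 15, nat_lit 27, nat_lit 15, nat_lit 27], [nat_lit 0]), (true, [nat_lit 0, nat_lit 31], [nat_lit 31, nat_lit 0])] = true := by decide +kernel
theorem en50b_0 : allZ (enEnt cne_P en50T en50W (nat_lit 4)) (nat_lit 0) (nat_lit 16) = true := by decide +kernel
theorem cm64 : 3 < 55 ∧ allZ (fun j => H16.force j (cmEnt (pk (catP (wdsP P wG) 55 (wdsP P uW)) [100, 49]) (wdsP P wG) B 3)) 0 2 = true := by decide +kernel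
theorem en33b_0 : allZ (enEnt n3e_P en33T en33W (nat_lit 4)) (nat_lit 0) (nat_lit 16) = true := by decide +kernel
theorem zltn0_0 : (Nat.ble zltl0.K 13 && Nat.beq (ltAll 714 []) 0 && kChk zle_P zlx_P zltn0.Kn 9 B1 [] && H16.allL (ltAll 9) zltn0.pre && planOK zlth_P zlx_P 9 (zltl0.Pt 0) zltn0.plan [zltl0, zltl1, zltl2, zltl3]) = true := by decide +kernel
theorem rL0k : H16.allL (litChk (wdsP Tm wW) 56 B1) [(true, [nat_lit 54, nat_lit 54], []), (true, [nat_lit 0, nat_lit 0], []), (false, [nat_lit 0], []), (true, [nat_lit 1, nat_lit 1], []), (true, [nat_lit 0, nat_lit 1], [nat_lit 1, nat_lit 0]), (true, [nat_lit 0, nat_lit 7], [nat_lit 7, nat_lit 0]), (true, [nat_lit 0, nat_lit 2], [nat_lit 2, nat_lit 0]), (true, [nat_lit 0, nat_lit 8], [nat_lit 8, nat_lit 0]), (true, [nat_lit 0, nat_lit 9], [nat_lit 9, nat_lit 0]), (true, [nat_lit 9, nat_lit 11], [nat_lit 11, nat_lit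 9]), (true, [nat_lit 11, nat_lit 11], []), (true, [nat_lit 9, nat_lit 0], [nat_lit 10]), (true, [nat_lit 0, nat_lit 16], [nat_lit 16, nat_lit 0]), (true, [nat_lit 2, nat_lit 16], [nat_lit 16, nat_lit 11]), (true, [nat_lit 12, nat_lit 9], [nat_lit 13]), (true, [nat_lit 0, nat_lit 17], [nat_lit 17, nat_lit 0])] = true := by decide +kernel
theorem n3_f3 : (Nat.ble n3c3.K 4 && Nat.ble (topK []) n3c3.K && Nat.beq (n3c3.Pt 0) (n3tl3.Pt 0) && Nat.beq (ltAll 714 [n3tl2.Pt 0, n3tl1.Pt 0, n3tl0.Pt 0]) 0 && kChk n3e_P n3x_P n3c3.K 6 B1 [n3tl2.Pt 0, n3tl1.Pt 0, n3tl0.Pt 0]) = true := by decide +kernel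
theorem ns75_a : allZ2 (nrmEnt rv0_P Tm (nat_lit 4) B1 ns75W) (nat_lit 5) (nat_lit 4) = true := by decide +kernel
theorem zl_f0 : (Nat.ble zlc0.K 2 && Nat.ble (topK []) zlc0.K && Nat.beq (zlc0.Pt 0) (zltl0.Pt 0) && Nat.beq (ltAll 714 []) 0 && kChk zle_P zlx_P zlc0.K 9 B1 []) = true := by decide +kernel
theorem rL2k : H16.allL (litChk (wdsP Tm wW) 56 B1) [(true, [nat_lit 18, nat_lit 31], [nat_lit 31, nat_lit 27]), (true, [nat_lit 0, nat_lit 32], [nat_lit 32, nat_lit 0]), (true, [nat_lit 9, nat_lit 32], [nat_lit 32, nat_lit 15]), (true, [nat_lit 27, nat_lit 0], [nat_lit 0, nat_lit 27]), (true, [nat_lit 15, nat_lit 0], [nat_lit 0, nat_lit 15]), (true, [nat_lit 3, nat_lit 54], [nat_lit 54, nat_lit 3]), (true, [nat_lit 54, nat_lit 54], [nat_lit 54, nat_lit 54]), (true, [nat_lit 0, nat_lit 54], [nat_lit 54, nat_lit 0]), (true, [nat_lit 3, nat_lit 3], []), (true, [nat_lit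 3, nat_lit 33], [nat_lit 33, nat_lit 35]), (true, [nat_lit 3, nat_lit 34], [nat_lit 34, nat_lit 35, nat_lit 3]), (true, [nat_lit 36, nat_lit 36], []), (false, [nat_lit 36], []), (true, [nat_lit 37, nat_lit 37], []), (false, [nat_lit 37], []), (false, [nat_lit 3], [])] = true := by decide +kernel
theorem en76a_a : allZ2 (tupEnt rv0_Q en76T en76N (nat_lit 714) (nat_lit 16) (nat_lit 4)) (nat_lit 4) (nat_lit 16) = true := by decide +kernel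
theorem en80a_a : allZ2 (tupEnt rv1_Q en80T en80N (nat_lit 714) (nat_lit 16) (nat_lit 4)) (nat_lit 4) (nat_lit 16) = true := by decide +kernel
theorem en60c : 0 < 512 ∧ H16.allL (ltAll 9) en60W = true ∧ ∀ β ∈ B1, ∃ j < 4, en60T j 0 = β := by decide +kernel
theorem cntn5_1_0 : allZ (cntn5.ent Tm cnth_P cnx_P cnx_P cne_P (nat_lit 5) (nat_lit 2) B1 cntl0 [cntl1, cntl2, cntl3, cntl4] (fun w => Nat.xor w (cntl0.Pt (nat_lit 0)))) (nat_lit 0) (nat_lit 42) = true := by decide +kernel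
theorem bwtn1_0 : (Nat.ble bwtl0.K 14 && Nat.beq (ltAll 714 []) 0 && kChk bwe_P bwx_P bwtn1.Kn 4 B1 [] && H16.allL (ltAll 4) bwtn1.pre && planOK bwth_P bwx_P 4 (bwtl0.Pt 0) bwtn1.plan [bwtl0, bwtl1, bwtl2, bwtl3, bwtl4, bwtl5]) = true := by decide +kernel
theorem le63_0 : allZ (leEnt t_P cle_P 10 B1 le63W) (nat_lit 0) (nat_lit 9) = true := by decide +kernel
theorem wb1tn0_0 : (Nat.ble wb1tl0.K 12 && Nat.beq (ltAll 714 []) 0 && kChk wb1e_P wb1x_P wb1tn0.Kn 4 B1 [] && H16.allL (ltAll 4) wb1tn0.pre && planOK wb1th_P wb1x_P 4 (wb1tl0.Pt 0) wb1tn0.plan [wb1tl0, wb1tl1, wb1tl2, wb1tl3]) = true := by decide +kernel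
theorem cntn6_1_0 : allZ (cntn6.ent Tm cnth_P cnx_P cntn5y246_P cntr6k_P (nat_lit 5) (nat_lit 2) B1 cntl1 [cntl2, cntl3, cntl4] (fun _ => nat_lit 1)) (nat_lit 0) (nat_lit 16) = true := by decide +kernel
theorem wb2tn1_0 : (Nat.ble wb2tl0.K 14 && Nat.beq (ltAll 714 []) 0 && kChk wb2e_P wb2x_P wb2tn1.Kn 4 B1 [] && H16.allL (ltAll 4) wb2tn1.pre && planOK wb2th_P wb2x_P 4 (wb2tl0.Pt 0) wb2tn1.plan [wb2tl0, wb2tl1, wb2tl2, wb2tl3, wb2tl4, wb2tl5]) = true := by decide +kernel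
theorem wb1_f0 : (Nat.ble wb1c0.K 3 && Nat.ble (topK []) wb1c0.K && Nat.beq (wb1c0.Pt 0) (wb1tl0.Pt 0) && Nat.beq (ltAll 714 []) 0 && kChk wb1e_P wb1x_P wb1c0.K 4 B1 []) = true := by decide +kernel
theorem n3tn0_0 : (Nat.ble n3tl3.K 13 && Nat.beq (ltAll 714 [n3tl2.Pt 0, n3tl1.Pt 0, n3tl0.Pt 0]) 0 && kChk n3e_P n3x_P n3tn0.Kn 6 B1 [n3tl2.Pt 0, n3tl1.Pt 0, n3tl0.Pt 0] && H16.allL (ltAll 6) n3tn0.pre && planOK n3th_P n3x_P 6 (n3tl3.Pt 0) n3tn0.plan [n3tl3, n3tl4]) = true := by decide +kernel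
theorem bw_f0 : (Nat.ble bwc0.K 3 && Nat.ble (topK [bwc5]) bwc0.K && Nat.beq (bwc0.Pt 0) (bwtl0.Pt 0) && Nat.beq (ltAll 714 []) 0 && kChk bwe_P bwx_P bwc0.K 4 B1 []) = true := by decide +kernel
theorem bzptn1_0 : (Nat.ble bzptl0.K 16 && Nat.beq (ltAll 714 []) 0 && kChk bzpe_P bzpx_P bzptn1.Kn 4 B1 [] && H16.allL (ltAll 4) bzptn1.pre && planOK bzpth_P bzpx_P 4 (bzptl0.Pt 0) bzptn1.plan [bzptl0, bzptl1, bzptl2, bzptl3, bzptl4, bzptl5]) = true := by decide +kernel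
theorem cntn11_0 : (Nat.ble cntl1.K 9 && Nat.beq (ltAll 714 [cntl0.Pt 0]) 0 && kChk cntr11k_P cntn5y488_P cntn11.Kn 2 B1 [cntl0.Pt 0] && H16.allL (ltAll 2) cntn11.pre && planOK cnth_P cnx_P 2 (cntl1.Pt 0) cntn11.plan [cntl1, cntl2, cntl3, cntl4]) = true := by decide +kernel
theorem wb2_f0 : (Nat.ble wb2c0.K 3 && Nat.ble (topK [wb2c5]) wb2c0.K && Nat.beq (wb2c0.Pt 0) (wb2tl0.Pt 0) && Nat.beq (ltAll 714 []) 0 && kChk wb2e_P wb2x_P wb2c0.K 4 B1 []) = true := by decide +kernel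
theorem cl_f6 : (Nat.ble clc6.K 9 && Nat.ble (topK []) clc6.K && Nat.beq (clc6.Pt 0) (cltl6.Pt 0) && Nat.beq (ltAll 714 [cltl5.Pt 0, cltl4.Pt 0, cltl3.Pt 0, cltl2.Pt 0, cltl1.Pt 0, cltl0.Pt 0]) 0 && kChk cle_P clx_P clc6.K 1 B1 [cltl5.Pt 0, cltl4.Pt 0, cltl3.Pt 0, cltl2.Pt 0, cltl1.Pt 0, cltl0.Pt 0]) = true := by decide +kernel
theorem cl_f5 : (Nat.ble clc5.K 9 && Nat.ble (topK [clc6]) clc5.K && Nat.beq (clc5.Pt 0) (cltl5.Pt 0) && Nat.beq (ltAll 714 [cltl4.Pt 0, cltl3.Pt 0, cltl2.Pt 0, cltl1.Pt 0, cltl0.Pt 0]) 0 && kChk cle_P clx_P clc5.K 1 B1 [cltl4.Pt 0, cltl3.Pt 0, cltl2.Pt 0, cltl1.Pt 0, cltl0.Pt 0]) = true := by decide +kernel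
theorem bwtn1_1_0 : allZ (bwtn1.ent Tm bwth_P bwx_P bwx_P bwe_P (nat_lit 6) (nat_lit 4) B1 bwtl0 [bwtl1, bwtl2, bwtl3, bwtl4, bwtl5] (memO bwc0)) (nat_lit 0) (nat_lit 42) = true := by decide +kernel
theorem en19a_a : allZ2 (tupEnt wb1e_P en19T en19N (nat_lit 714) (nat_lit 8) (nat_lit 4)) (nat_lit 3) (nat_lit 8) = true := by decide +kernel
theorem cl_f4 : (Nat.ble clc4.K 9 && Nat.ble (topK [clc5, clc6]) clc4.K && Nat.beq (clc4.Pt 0) (cltl4.Pt 0) && Nat.beq (ltAll 714 [cltl3.Pt 0, cltl2.Pt 0, cltl1.Pt 0, cltl0.Pt 0]) 0 && kChk cle_P clx_P clc4.K 1 B1 [cltl3.Pt 0, cltl2.Pt 0, cltl1.Pt 0, cltl0.Pt 0]) = true := by decide +kernel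
theorem en16a_a : allZ2 (tupEnt bwe_P en16T en16N (nat_lit 714) (nat_lit 8) (nat_lit 4)) (nat_lit 3) (nat_lit 8) = true := by decide +kernel
theorem en26a_a : allZ2 (tupEnt wb2e_P en26T en26N (nat_lit 714) (nat_lit 8) (nat_lit 4)) (nat_lit 3) (nat_lit 8) = true := by decide +kernel
theorem cntn6_0 : (Nat.ble cntl1.K 9 && Nat.beq (ltAll 714 [cntl0.Pt 0]) 0 && kChk cntr6k_P cntn5y246_P cntn6.Kn 2 B1 [cntl0.Pt 0] && H16.allL (ltAll 2) cntn6.pre && planOK cnth_P cnx_P 2 (cntl1.Pt 0) cntn6.plan [cntl1, cntl2, cntl3, cntl4]) = true := by decide +kernel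
theorem cntn12_0 : (Nat.ble cntl1.K 9 && Nat.beq (ltAll 714 [cntl0.Pt 0]) 0 && kChk cntr12k_P cntn5y93_P cntn12.Kn 2 B1 [cntl0.Pt 0] && H16.allL (ltAll 2) cntn12.pre && planOK cnth_P cnx_P 2 (cntl1.Pt 0) cntn12.plan [cntl1, cntl2, cntl3, cntl4]) = true := by decide +kernel
theorem cltn5_0 : (Nat.ble cltl0.K 12 && Nat.beq (ltAll 714 []) 0 && kChk cle_P clx_P cltn5.Kn 1 B1 [] && H16.allL (ltAll 1) cltn5.pre && planOK clth_P clx_P 1 (cltl0.Pt 0) cltn5.plan [cltl0, cltl1, cltl2, cltl3, cltl4, cltl5, cltl6]) = true := by decide +kernel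
theorem co56_0 : allZ (comEnt nu_P cnx_P 4 B1 co56U co56V) (nat_lit 0) (nat_lit 2) = true := by decide +kernel
theorem cntn2_0 : (Nat.ble cntl1.K 9 && Nat.beq (ltAll 714 [cntl0.Pt 0]) 0 && kChk cne_P cnx_P cntn2.Kn 2 B1 [cntl0.Pt 0] && H16.allL (ltAll 2) cntn2.pre && planOK cnth_P cnx_P 2 (cntl1.Pt 0) cntn2.plan [cntl1, cntl2, cntl3, cntl4]) = true := by decide +kernel
theorem cptn3_1_0 : allZ (cptn3.ent Tm cpth_P cpx_P cpx_P cpe_P (nat_lit 5) (nat_lit 1) B1 cptl0 [cptl1, cptl2, cptl3, cptl4, cptl5, cptl6] (memO cpc0)) (nat_lit 0) (nat_lit 42) = true := by decide +kernel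
theorem cl_f0 : (Nat.ble clc0.K 9 && Nat.ble (topK [clc1, clc2, clc4, clc5, clc6]) clc0.K && Nat.beq (clc0.Pt 0) (cltl0.Pt 0) && Nat.beq (ltAll 714 []) 0 && kChk cle_P clx_P clc0.K 1 B1 []) = true := by decide +kernel
theorem cl_f2 : (Nat.ble clc2.K 9 && Nat.ble (topK [clc4, clc5, clc6]) clc2.K && Nat.beq (clc2.Pt 0) (cltl2.Pt 0) && Nat.beq (ltAll 714 [cltl1.Pt 0, cltl0.Pt 0]) 0 && kChk cle_P clx_P clc2.K 1 B1 [cltl1.Pt 0, cltl0.Pt 0]) = true := by decide +kernel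
theorem bw_f5 : (Nat.ble bwc5.K 3 && Nat.ble (topK []) bwc5.K && Nat.beq (bwc5.Pt 0) (bwtl5.Pt 0) && Nat.beq (ltAll 714 [bwtl4.Pt 0, bwtl3.Pt 0, bwtl2.Pt 0, bwtl1.Pt 0, bwtl0.Pt 0]) 0 && kChk bwe_P bwx_P bwc5.K 4 B1 [bwtl4.Pt 0, bwtl3.Pt 0, bwtl2.Pt 0, bwtl1.Pt 0, bwtl0.Pt 0]) = true := by decide +kernel
theorem wb2_f5 : (Nat.ble wb2c5.K 3 && Nat.ble (topK []) wb2c5.K && Nat.beq (wb2c5.Pt 0) (wb2tl5.Pt 0) && Nat.beq (ltAll 714 [wb2tl4.Pt 0, wb2tl3.Pt 0, wb2tl2.Pt 0, wb2tl1.Pt 0, wb2tl0.Pt 0]) 0 && kChk wb2e_P wb2x_P wb2c5.K 4 B1 [wb2tl4.Pt 0, wb2tl3.Pt 0, wb2tl2.Pt 0, wb2tl1.Pt 0, wb2tl0.Pt 0]) = true := by decide +kernel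
theorem rL3k : H16.allL (litChk (wdsP Tm wW) 56 B1) [(true, [nat_lit 49, nat_lit 49], [nat_lit 0]), (true, [nat_lit 3, nat_lit 48], [nat_lit 48, nat_lit 3]), (false, [nat_lit 2, nat_lit 1], [nat_lit 1, nat_lit 2]), (true, [nat_lit 2, nat_lit 2], []), (true, [nat_lit 1, nat_lit 52], [nat_lit 52, nat_lit 51]), (true, [nat_lit 2, nat_lit 53], [nat_lit 53, nat_lit 11]), (true, [nat_lit 2, nat_lit 1, nat_lit 2], [nat_lit 0, nat_lit 1])] = true := by decide +kernel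
theorem bzp_f0 : (Nat.ble bzpc0.K 3 && Nat.ble (topK [bzpc5]) bzpc0.K && Nat.beq (bzpc0.Pt 0) (bzptl0.Pt 0) && Nat.beq (ltAll 714 []) 0 && kChk bzpe_P bzpx_P bzpc0.K 4 B1 []) = true := by decide +kernel
theorem cl_f1 : (Nat.ble clc1.K 9 && Nat.ble (topK [clc2, clc4, clc5, clc6]) clc1.K && Nat.beq (clc1.Pt 0) (cltl1.Pt 0) && Nat.beq (ltAll 714 [cltl0.Pt 0]) 0 && kChk cle_P clx_P clc1.K 1 B1 [cltl0.Pt 0]) = true := by decide +kernel
theorem bzptn1_1_0 : allZ (bzptn1.ent Tm bzpth_P bzpx_P bzpx_P bzpe_P (nat_lit 6) (nat_lit 4) B1 bzptl0 [bzptl1, bzptl2, bzptl3, bzptl4, bzptl5] (memO bzpc0)) (nat_lit 0) (nat_lit 42) = true := by decide +kernel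
theorem cf_f7 : (Nat.ble cfc7.K 6 && Nat.ble (topK []) cfc7.K && Nat.beq (cfc7.Pt 0) (cftl7.Pt 0) && Nat.beq (ltAll 714 [cftl6.Pt 0, cftl5.Pt 0, cftl4.Pt 0, cftl3.Pt 0, cftl2.Pt 0, cftl1.Pt 0, cftl0.Pt 0]) 0 && kChk cfe_P cfx_P cfc7.K 1 B1 [cftl6.Pt 0, cftl5.Pt 0, cftl4.Pt 0, cftl3.Pt 0, cftl2.Pt 0, cftl1.Pt 0, cftl0.Pt 0]) = true := by decide +kernel
theorem cn_f1 : (Nat.ble cnc1.K 4 && Nat.ble (topK [cnc3, cnc4]) cnc1.K && Nat.beq (cnc1.Pt 0) (cntl1.Pt 0) && Nat.beq (ltAll 714 [cntl0.Pt 0]) 0 && kChk cne_P cnx_P cnc1.K 2 B1 [cntl0.Pt 0]) = true := by decide +kernel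
theorem cntn5_0 : (Nat.ble cntl0.K 9 && Nat.beq (ltAll 714 []) 0 && kChk cne_P cnx_P cntn5.Kn 2 B1 [] && H16.allL (ltAll 2) cntn5.pre && planOK cnth_P cnx_P 2 (cntl0.Pt 0) cntn5.plan [cntl0, cntl1, cntl2, cntl3, cntl4]) = true := by decide +kernel
theorem cqtn0_0 : (Nat.ble cqtl0.K 11 && Nat.beq (ltAll 714 []) 0 && kChk cqe_P rq_P cqtn0.Kn 6 B1 [] && H16.allL (ltAll 6) cqtn0.pre && planOK cqth_P rq_P 6 (cqtl0.Pt 0) cqtn0.plan [cqtl0, cqtl1, cqtl2, cqtl3]) = true := by decide +kernel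
theorem en10a_a : allZ2 (tupEnt bzpe_P en10T en10N (nat_lit 714) (nat_lit 8) (nat_lit 4)) (nat_lit 3) (nat_lit 8) = true := by decide +kernel
theorem wb2tn1_1_0 : allZ (wb2tn1.ent Tm wb2th_P wb2x_P wb2x_P wb2e_P (nat_lit 6) (nat_lit 4) B1 wb2tl0 [wb2tl1, wb2tl2, wb2tl3, wb2tl4, wb2tl5] (memO wb2c0)) (nat_lit 0) (nat_lit 42) = true := by decide +kernel
theorem en71c : 0 < 24 ∧ H16.allL (ltAll 4) en71W = true ∧ ∀ β ∈ B1, ∃ j < 4, en71T j 0 = β := by decide +kernel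
theorem cltn4_0 : (Nat.ble cltl1.K 12 && Nat.beq (ltAll 714 [cltl0.Pt 0]) 0 && kChk cle_P clx_P cltn4.Kn 1 B1 [cltl0.Pt 0] && H16.allL (ltAll 1) cltn4.pre && planOK clth_P clx_P 1 (cltl1.Pt 0) cltn4.plan [cltl1, cltl2, cltl3, cltl4, cltl5, cltl6]) = true := by decide +kernel
theorem en19b_0 : allZ (enEnt wb1e_P en19T en19W (nat_lit 4)) (nat_lit 0) (nat_lit 8) = true := by decide +kernel
theorem en33c : 0 < 16 ∧ H16.allL (ltAll 4) en33W = true ∧ ∀ β ∈ B1, ∃ j < 4, en33T j 0 = β := by decide +kernel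
theorem en50c : 0 < 16 ∧ H16.allL (ltAll 4) en50W = true ∧ ∀ β ∈ B1, ∃ j < 4, en50T j 0 = β := by decide +kernel
theorem en76c : 0 < 16 ∧ H16.allL (ltAll 4) en76W = true ∧ ∀ β ∈ B1, ∃ j < 4, en76T j 0 = β := by decide +kernel
theorem en80c : 0 < 16 ∧ H16.allL (ltAll 4) en80W = true ∧ ∀ β ∈ B1, ∃ j < 4, en80T j 0 = β := by decide +kernel
theorem cn_f3 : (Nat.ble cnc3.K 4 && Nat.ble (topK [cnc4]) cnc3.K && Nat.beq (cnc3.Pt 0) (cntl3.Pt 0) && Nat.beq (ltAll 714 [cntl2.Pt 0, cntl1.Pt 0, cntl0.Pt 0]) 0 && kChk cne_P cnx_P cnc3.K 2 B1 [cntl2.Pt 0, cntl1.Pt 0, cntl0.Pt 0]) = true := by decide +kernel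
theorem en10c : 0 < 8 ∧ H16.allL (ltAll 3) en10W = true ∧ ∀ β ∈ B1, ∃ j < 4, en10T j 0 = β := by decide +kernel
theorem en16c : 0 < 8 ∧ H16.allL (ltAll 3) en16W = true ∧ ∀ β ∈ B1, ∃ j < 4, en16T j 0 = β := by decide +kernel
theorem en19c : 0 < 8 ∧ H16.allL (ltAll 3) en19W = true ∧ ∀ β ∈ B1, ∃ j < 4, en19T j 0 = β := by decide +kernel
theorem en26c : 0 < 8 ∧ H16.allL (ltAll 3) en26W = true ∧ ∀ β ∈ B1, ∃ j < 4, en26T j 0 = β := by decide +kernel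
theorem en7c : 0 < 4 ∧ H16.allL (ltAll 2) en7W = true ∧ ∀ β ∈ B1, ∃ j < 4, en7T j 0 = β := by decide +kernel
theorem en13c : 0 < 4 ∧ H16.allL (ltAll 2) en13W = true ∧ ∀ β ∈ B1, ∃ j < 4, en13T j 0 = β := by decide +kernel
theorem en16b_0 : allZ (enEnt bwe_P en16T en16W (nat_lit 4)) (nat_lit 0) (nat_lit 8) = true := by decide +kernel
theorem en26b_0 : allZ (enEnt wb2e_P en26T en26W (nat_lit 4)) (nat_lit 0) (nat_lit 8) = true := by decide +kernel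
theorem en58c : 0 < 4 ∧ H16.allL (ltAll 2) en58W = true ∧ ∀ β ∈ B1, ∃ j < 4, en58T j 0 = β := by decide +kernel
theorem en47c : 0 < 2 ∧ H16.allL (ltAll 1) en47W = true ∧ ∀ β ∈ B1, ∃ j < 4, en47T j 0 = β := by decide +kernel
theorem en83c : 0 < 2 ∧ H16.allL (ltAll 1) en83W = true ∧ ∀ β ∈ B1, ∃ j < 4, en83T j 0 = β := by decide +kernel
theorem t_lt : H16.allL (ltAll 6) t_W = true := by decide +kernel
theorem t_b : neL B1 (tB.map tE) = 0 ∧ ltAll 336 tB = 0 := by decide +kernel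
theorem t_e : H16.allL (ltAll 11) te = true := by decide +kernel
theorem tl0_h : 0 < tl0.n ∧ 0 < tl0.K ∧ tl0.Pt 0 < 336 ∧ tl0.Q (tl0.Pt 0) = 0 := by decide +kernel
theorem tl1_h : 0 < tl1.n ∧ 0 < tl1.K ∧ tl1.Pt 0 < 336 ∧ tl1.Q (tl1.Pt 0) = 0 := by decide +kernel
theorem tl2_h : 0 < tl2.n ∧ 0 < tl2.K ∧ tl2.Pt 0 < 336 ∧ tl2.Q (tl2.Pt 0) = 0 := by decide +kernel
theorem tl3_h : 0 < tl3.n ∧ 0 < tl3.K ∧ tl3.Pt 0 < 336 ∧ tl3.Q (tl3.Pt 0) = 0 := by decide +kernel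
theorem t_c : chainCard [tl0, tl1, tl2, tl3] = 2 ^ 11 ∧ ¬ 2 ^ (11 + 1) ∣ 43008 := by decide +kernel
theorem pf_lt : H16.allL (ltAll 6) pf_W = true := by decide +kernel
theorem pf_b : neL B1 (pfB.map pfE) = 0 ∧ ltAll 12 pfB = 0 := by decide +kernel
theorem pf_e : H16.allL (ltAll 1) pfe = true := by decide +kernel
theorem pfl0_h : 0 < pfl0.n ∧ 0 < pfl0.K ∧ pfl0.Pt 0 < 12 ∧ pfl0.Q (pfl0.Pt 0) = 0 := by decide +kernel
theorem pf_c : chainCard [pfl0] = 3 ^ 1 ∧ ¬ 3 ^ (1 + 1) ∣ 43008 := by decide +kernel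
theorem wzpx_lt : H16.allL (ltAll 6) wzpx_W = true := by decide +kernel
theorem wzpth_lt : H16.allL (ltAll 6) wzpth_W = true := by decide +kernel
theorem wzptl0_h : 0 < wzptl0.n ∧ 0 < wzptl0.K ∧ wzptl0.Pt 0 < 714 ∧ wzptl0.Q (wzptl0.Pt 0) = 0 := by decide +kernel
theorem wzptl1_h : 0 < wzptl1.n ∧ 0 < wzptl1.K ∧ wzptl1.Pt 0 < 714 ∧ wzptl1.Q (wzptl1.Pt 0) = 0 := by decide +kernel
theorem wzptl2_h : 0 < wzptl2.n ∧ 0 < wzptl2.K ∧ wzptl2.Pt 0 < 714 ∧ wzptl2.Q (wzptl2.Pt 0) = 0 := by decide +kernel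
theorem wzptl3_h : 0 < wzptl3.n ∧ 0 < wzptl3.K ∧ wzptl3.Pt 0 < 714 ∧ wzptl3.Q (wzptl3.Pt 0) = 0 := by decide +kernel
theorem wzpt_c : chainCard [wzptl0, wzptl1, wzptl2, wzptl3] = 43008 := by decide +kernel
theorem wzpe_lt : H16.allL (ltAll 6) wzpe_W = true := by decide +kernel
theorem wzpc0_h : 0 < wzpc0.n ∧ 0 < wzpc0.K ∧ wzpc0.Pt 0 < 714 ∧ wzpc0.Q (wzpc0.Pt 0) = 0 := by decide +kernel
theorem wzp_c : chainCard [wzpc0] = 4 ∧ topK [wzpc0] = 2 := by decide +kernel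
theorem bzpx_lt : H16.allL (ltAll 6) bzpx_W = true := by decide +kernel
theorem bzpth_lt : H16.allL (ltAll 6) bzpth_W = true := by decide +kernel
theorem bzptl0_h : 0 < bzptl0.n ∧ 0 < bzptl0.K ∧ bzptl0.Pt 0 < 714 ∧ bzptl0.Q (bzptl0.Pt 0) = 0 := by decide +kernel
theorem bzptl1_h : 0 < bzptl1.n ∧ 0 < bzptl1.K ∧ bzptl1.Pt 0 < 714 ∧ bzptl1.Q (bzptl1.Pt 0) = 0 := by decide +kernel
theorem bzptl2_h : 0 < bzptl2.n ∧ 0 < bzptl2.K ∧ bzptl2.Pt 0 < 714 ∧ bzptl2.Q (bzptl2.Pt 0) = 0 := by decide +kernel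
theorem bzptl3_h : 0 < bzptl3.n ∧ 0 < bzptl3.K ∧ bzptl3.Pt 0 < 714 ∧ bzptl3.Q (bzptl3.Pt 0) = 0 := by decide +kernel
theorem bzptl4_h : 0 < bzptl4.n ∧ 0 < bzptl4.K ∧ bzptl4.Pt 0 < 714 ∧ bzptl4.Q (bzptl4.Pt 0) = 0 := by decide +kernel
theorem bzptl5_h : 0 < bzptl5.n ∧ 0 < bzptl5.K ∧ bzptl5.Pt 0 < 714 ∧ bzptl5.Q (bzptl5.Pt 0) = 0 := by decide +kernel
theorem bzpt_c : chainCard [bzptl0, bzptl1, bzptl2, bzptl3, bzptl4, bzptl5] = 43008 := by decide +kernel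
theorem bzpe_lt : H16.allL (ltAll 6) bzpe_W = true := by decide +kernel
theorem bzpc5_h : 0 < bzpc5.n ∧ 0 < bzpc5.K ∧ bzpc5.Pt 0 < 714 ∧ bzpc5.Q (bzpc5.Pt 0) = 0 := by decide +kernel
theorem bzpc0_h : 0 < bzpc0.n ∧ 0 < bzpc0.K ∧ bzpc0.Pt 0 < 714 ∧ bzpc0.Q (bzpc0.Pt 0) = 0 := by decide +kernel
theorem bzp_c : chainCard [bzpc0, bzpc5] = 8 ∧ topK [bzpc0, bzpc5] = 3 := by decide +kernel
theorem wwx_lt : H16.allL (ltAll 6) wwx_W = true := by decide +kernel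
theorem wwth_lt : H16.allL (ltAll 6) wwth_W = true := by decide +kernel
theorem wwtl0_h : 0 < wwtl0.n ∧ 0 < wwtl0.K ∧ wwtl0.Pt 0 < 714 ∧ wwtl0.Q (wwtl0.Pt 0) = 0 := by decide +kernel
theorem wwtl1_h : 0 < wwtl1.n ∧ 0 < wwtl1.K ∧ wwtl1.Pt 0 < 714 ∧ wwtl1.Q (wwtl1.Pt 0) = 0 := by decide +kernel
theorem wwtl2_h : 0 < wwtl2.n ∧ 0 < wwtl2.K ∧ wwtl2.Pt 0 < 714 ∧ wwtl2.Q (wwtl2.Pt 0) = 0 := by decide +kernel
theorem wwt_c : chainCard [wwtl0, wwtl1, wwtl2] = 43008 := by decide +kernel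
theorem wwe_lt : H16.allL (ltAll 6) wwe_W = true := by decide +kernel
theorem wwc0_h : 0 < wwc0.n ∧ 0 < wwc0.K ∧ wwc0.Pt 0 < 714 ∧ wwc0.Q (wwc0.Pt 0) = 0 := by decide +kernel
theorem ww_c : chainCard [wwc0] = 4 ∧ topK [wwc0] = 2 := by decide +kernel
theorem bwx_lt : H16.allL (ltAll 6) bwx_W = true := by decide +kernel
theorem bwth_lt : H16.allL (ltAll 6) bwth_W = true := by decide +kernel
theorem bwtl0_h : 0 < bwtl0.n ∧ 0 < bwtl0.K ∧ bwtl0.Pt 0 < 714 ∧ bwtl0.Q (bwtl0.Pt 0) = 0 := by decide +kernel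
theorem bwtl1_h : 0 < bwtl1.n ∧ 0 < bwtl1.K ∧ bwtl1.Pt 0 < 714 ∧ bwtl1.Q (bwtl1.Pt 0) = 0 := by decide +kernel
theorem bwtl2_h : 0 < bwtl2.n ∧ 0 < bwtl2.K ∧ bwtl2.Pt 0 < 714 ∧ bwtl2.Q (bwtl2.Pt 0) = 0 := by decide +kernel
theorem bwtl3_h : 0 < bwtl3.n ∧ 0 < bwtl3.K ∧ bwtl3.Pt 0 < 714 ∧ bwtl3.Q (bwtl3.Pt 0) = 0 := by decide +kernel
theorem bwtl4_h : 0 < bwtl4.n ∧ 0 < bwtl4.K ∧ bwtl4.Pt 0 < 714 ∧ bwtl4.Q (bwtl4.Pt 0) = 0 := by decide +kernel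
theorem bwtl5_h : 0 < bwtl5.n ∧ 0 < bwtl5.K ∧ bwtl5.Pt 0 < 714 ∧ bwtl5.Q (bwtl5.Pt 0) = 0 := by decide +kernel
theorem bwt_c : chainCard [bwtl0, bwtl1, bwtl2, bwtl3, bwtl4, bwtl5] = 43008 := by decide +kernel
theorem bwe_lt : H16.allL (ltAll 6) bwe_W = true := by decide +kernel
theorem bwc5_h : 0 < bwc5.n ∧ 0 < bwc5.K ∧ bwc5.Pt 0 < 714 ∧ bwc5.Q (bwc5.Pt 0) = 0 := by decide +kernel
theorem bwc0_h : 0 < bwc0.n ∧ 0 < bwc0.K ∧ bwc0.Pt 0 < 714 ∧ bwc0.Q (bwc0.Pt 0) = 0 := by decide +kernel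
theorem bw_c : chainCard [bwc0, bwc5] = 8 ∧ topK [bwc0, bwc5] = 3 := by decide +kernel
theorem wb1x_lt : H16.allL (ltAll 6) wb1x_W = true := by decide +kernel
theorem wb1th_lt : H16.allL (ltAll 6) wb1th_W = true := by decide +kernel
theorem wb1tl0_h : 0 < wb1tl0.n ∧ 0 < wb1tl0.K ∧ wb1tl0.Pt 0 < 714 ∧ wb1tl0.Q (wb1tl0.Pt 0) = 0 := by decide +kernel
theorem wb1tl1_h : 0 < wb1tl1.n ∧ 0 < wb1tl1.K ∧ wb1tl1.Pt 0 < 714 ∧ wb1tl1.Q (wb1tl1.Pt 0) = 0 := by decide +kernel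
theorem wb1tl2_h : 0 < wb1tl2.n ∧ 0 < wb1tl2.K ∧ wb1tl2.Pt 0 < 714 ∧ wb1tl2.Q (wb1tl2.Pt 0) = 0 := by decide +kernel
theorem wb1tl3_h : 0 < wb1tl3.n ∧ 0 < wb1tl3.K ∧ wb1tl3.Pt 0 < 714 ∧ wb1tl3.Q (wb1tl3.Pt 0) = 0 := by decide +kernel
theorem wb1t_c : chainCard [wb1tl0, wb1tl1, wb1tl2, wb1tl3] = 43008 := by decide +kernel
theorem wb1e_lt : H16.allL (ltAll 6) wb1e_W = true := by decide +kernel
theorem wb1c0_h : 0 < wb1c0.n ∧ 0 < wb1c0.K ∧ wb1c0.Pt 0 < 714 ∧ wb1c0.Q (wb1c0.Pt 0) = 0 := by decide +kernel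
theorem wb1_c : chainCard [wb1c0] = 8 ∧ topK [wb1c0] = 3 := by decide +kernel
theorem wb2x_lt : H16.allL (ltAll 6) wb2x_W = true := by decide +kernel
theorem wb2th_lt : H16.allL (ltAll 6) wb2th_W = true := by decide +kernel
theorem wb2tl0_h : 0 < wb2tl0.n ∧ 0 < wb2tl0.K ∧ wb2tl0.Pt 0 < 714 ∧ wb2tl0.Q (wb2tl0.Pt 0) = 0 := by decide +kernel
theorem wb2tl1_h : 0 < wb2tl1.n ∧ 0 < wb2tl1.K ∧ wb2tl1.Pt 0 < 714 ∧ wb2tl1.Q (wb2tl1.Pt 0) = 0 := by decide +kernel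
theorem wb2tl2_h : 0 < wb2tl2.n ∧ 0 < wb2tl2.K ∧ wb2tl2.Pt 0 < 714 ∧ wb2tl2.Q (wb2tl2.Pt 0) = 0 := by decide +kernel
theorem wb2tl3_h : 0 < wb2tl3.n ∧ 0 < wb2tl3.K ∧ wb2tl3.Pt 0 < 714 ∧ wb2tl3.Q (wb2tl3.Pt 0) = 0 := by decide +kernel
theorem wb2tl4_h : 0 < wb2tl4.n ∧ 0 < wb2tl4.K ∧ wb2tl4.Pt 0 < 714 ∧ wb2tl4.Q (wb2tl4.Pt 0) = 0 := by decide +kernel
theorem wb2tl5_h : 0 < wb2tl5.n ∧ 0 < wb2tl5.K ∧ wb2tl5.Pt 0 < 714 ∧ wb2tl5.Q (wb2tl5.Pt 0) = 0 := by decide +kernel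
theorem wb2t_c : chainCard [wb2tl0, wb2tl1, wb2tl2, wb2tl3, wb2tl4, wb2tl5] = 43008 := by decide +kernel
theorem wb2e_lt : H16.allL (ltAll 6) wb2e_W = true := by decide +kernel
theorem wb2c5_h : 0 < wb2c5.n ∧ 0 < wb2c5.K ∧ wb2c5.Pt 0 < 714 ∧ wb2c5.Q (wb2c5.Pt 0) = 0 := by decide +kernel
theorem wb2c0_h : 0 < wb2c0.n ∧ 0 < wb2c0.K ∧ wb2c0.Pt 0 < 714 ∧ wb2c0.Q (wb2c0.Pt 0) = 0 := by decide +kernel
theorem wb2_c : chainCard [wb2c0, wb2c5] = 8 ∧ topK [wb2c0, wb2c5] = 3 := by decide +kernel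
theorem n3x_lt : H16.allL (ltAll 6) n3x_W = true := by decide +kernel
theorem n3th_lt : H16.allL (ltAll 6) n3th_W = true := by decide +kernel
theorem n3tl0_h : 0 < n3tl0.n ∧ 0 < n3tl0.K ∧ n3tl0.Pt 0 < 714 ∧ n3tl0.Q (n3tl0.Pt 0) = 0 := by decide +kernel
theorem n3tl1_h : 0 < n3tl1.n ∧ 0 < n3tl1.K ∧ n3tl1.Pt 0 < 714 ∧ n3tl1.Q (n3tl1.Pt 0) = 0 := by decide +kernel
theorem n3tl2_h : 0 < n3tl2.n ∧ 0 < n3tl2.K ∧ n3tl2.Pt 0 < 714 ∧ n3tl2.Q (n3tl2.Pt 0) = 0 := by decide +kernel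
theorem n3tl3_h : 0 < n3tl3.n ∧ 0 < n3tl3.K ∧ n3tl3.Pt 0 < 714 ∧ n3tl3.Q (n3tl3.Pt 0) = 0 := by decide +kernel
theorem n3tl4_h : 0 < n3tl4.n ∧ 0 < n3tl4.K ∧ n3tl4.Pt 0 < 714 ∧ n3tl4.Q (n3tl4.Pt 0) = 0 := by decide +kernel
theorem n3t_c : chainCard [n3tl0, n3tl1, n3tl2, n3tl3, n3tl4] = 43008 := by decide +kernel
theorem n3e_lt : H16.allL (ltAll 6) n3e_W = true := by decide +kernel
theorem n3c3_h : 0 < n3c3.n ∧ 0 < n3c3.K ∧ n3c3.Pt 0 < 714 ∧ n3c3.Q (n3c3.Pt 0) = 0 := by decide +kernel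
theorem n3c0_h : 0 < n3c0.n ∧ 0 < n3c0.K ∧ n3c0.Pt 0 < 714 ∧ n3c0.Q (n3c0.Pt 0) = 0 := by decide +kernel
theorem n3_c : chainCard [n3c0, n3c3] = 16 ∧ topK [n3c0, n3c3] = 4 := by decide +kernel
theorem covr_lt : H16.allL (ltAll 6) covr_W = true := by decide +kernel
theorem cj_lt : H16.allL (ltAll 12) cj_W = true := by decide +kernel
theorem cfx_lt : H16.allL (ltAll 6) cfx_W = true := by decide +kernel
theorem cfth_lt : H16.allL (ltAll 6) cfth_W = true := by decide +kernel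
theorem cftl0_h : 0 < cftl0.n ∧ 0 < cftl0.K ∧ cftl0.Pt 0 < 714 ∧ cftl0.Q (cftl0.Pt 0) = 0 := by decide +kernel
theorem cftl1_h : 0 < cftl1.n ∧ 0 < cftl1.K ∧ cftl1.Pt 0 < 714 ∧ cftl1.Q (cftl1.Pt 0) = 0 := by decide +kernel
theorem cftl2_h : 0 < cftl2.n ∧ 0 < cftl2.K ∧ cftl2.Pt 0 < 714 ∧ cftl2.Q (cftl2.Pt 0) = 0 := by decide +kernel
theorem cftl3_h : 0 < cftl3.n ∧ 0 < cftl3.K ∧ cftl3.Pt 0 < 714 ∧ cftl3.Q (cftl3.Pt 0) = 0 := by decide +kernel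
theorem cftl4_h : 0 < cftl4.n ∧ 0 < cftl4.K ∧ cftl4.Pt 0 < 714 ∧ cftl4.Q (cftl4.Pt 0) = 0 := by decide +kernel
theorem cftl5_h : 0 < cftl5.n ∧ 0 < cftl5.K ∧ cftl5.Pt 0 < 714 ∧ cftl5.Q (cftl5.Pt 0) = 0 := by decide +kernel
theorem cftl6_h : 0 < cftl6.n ∧ 0 < cftl6.K ∧ cftl6.Pt 0 < 714 ∧ cftl6.Q (cftl6.Pt 0) = 0 := by decide +kernel
theorem cftl7_h : 0 < cftl7.n ∧ 0 < cftl7.K ∧ cftl7.Pt 0 < 714 ∧ cftl7.Q (cftl7.Pt 0) = 0 := by decide +kernel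
theorem cft_c : chainCard [cftl0, cftl1, cftl2, cftl3, cftl4, cftl5, cftl6, cftl7] = 43008 := by decide +kernel
theorem cfe_lt : H16.allL (ltAll 6) cfe_W = true := by decide +kernel
theorem cfc7_h : 0 < cfc7.n ∧ 0 < cfc7.K ∧ cfc7.Pt 0 < 714 ∧ cfc7.Q (cfc7.Pt 0) = 0 := by decide +kernel
theorem cftn1y60_lt : H16.allL (ltAll 6) cftn1y60_W = true := by decide +kernel
theorem cftr2k_lt : H16.allL (ltAll 6) cftr2k_W = true := by decide +kernel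
theorem cftn3y114_lt : H16.allL (ltAll 6) cftn3y114_W = true := by decide +kernel
theorem cftr4k_lt : H16.allL (ltAll 6) cftr4k_W = true := by decide +kernel
theorem cfc3_h : 0 < cfc3.n ∧ 0 < cfc3.K ∧ cfc3.Pt 0 < 714 ∧ cfc3.Q (cfc3.Pt 0) = 0 := by decide +kernel
theorem cfc2_h : 0 < cfc2.n ∧ 0 < cfc2.K ∧ cfc2.Pt 0 < 714 ∧ cfc2.Q (cfc2.Pt 0) = 0 := by decide +kernel
theorem cfc0_h : 0 < cfc0.n ∧ 0 < cfc0.K ∧ cfc0.Pt 0 < 714 ∧ cfc0.Q (cfc0.Pt 0) = 0 := by decide +kernel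
theorem cf_c : chainCard [cfc0, cfc2, cfc3, cfc7] = 96 ∧ topK [cfc0, cfc2, cfc3, cfc7] = 6 := by decide +kernel
theorem ctx_lt : H16.allL (ltAll 6) ctx_W = true := by decide +kernel
theorem ctth_lt : H16.allL (ltAll 6) ctth_W = true := by decide +kernel
theorem cttl0_h : 0 < cttl0.n ∧ 0 < cttl0.K ∧ cttl0.Pt 0 < 714 ∧ cttl0.Q (cttl0.Pt 0) = 0 := by decide +kernel
theorem cttl1_h : 0 < cttl1.n ∧ 0 < cttl1.K ∧ cttl1.Pt 0 < 714 ∧ cttl1.Q (cttl1.Pt 0) = 0 := by decide +kernel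
theorem cttl2_h : 0 < cttl2.n ∧ 0 < cttl2.K ∧ cttl2.Pt 0 < 714 ∧ cttl2.Q (cttl2.Pt 0) = 0 := by decide +kernel
theorem ctt_c : chainCard [cttl0, cttl1, cttl2] = 43008 := by decide +kernel
theorem cte_lt : H16.allL (ltAll 6) cte_W = true := by decide +kernel
theorem ctc0_h : 0 < ctc0.n ∧ 0 < ctc0.K ∧ ctc0.Pt 0 < 714 ∧ ctc0.Q (ctc0.Pt 0) = 0 := by decide +kernel
theorem ct_c : chainCard [ctc0] = 2 ∧ topK [ctc0] = 1 := by decide +kernel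
theorem ckx_lt : H16.allL (ltAll 6) ckx_W = true := by decide +kernel
theorem ckth_lt : H16.allL (ltAll 6) ckth_W = true := by decide +kernel
theorem cktl0_h : 0 < cktl0.n ∧ 0 < cktl0.K ∧ cktl0.Pt 0 < 714 ∧ cktl0.Q (cktl0.Pt 0) = 0 := by decide +kernel
theorem cktl1_h : 0 < cktl1.n ∧ 0 < cktl1.K ∧ cktl1.Pt 0 < 714 ∧ cktl1.Q (cktl1.Pt 0) = 0 := by decide +kernel
theorem ckt_c : chainCard [cktl0, cktl1] = 43008 := by decide +kernel
theorem cke_lt : H16.allL (ltAll 6) cke_W = true := by decide +kernel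
theorem ckc0_h : 0 < ckc0.n ∧ 0 < ckc0.K ∧ ckc0.Pt 0 < 714 ∧ ckc0.Q (ckc0.Pt 0) = 0 := by decide +kernel
theorem ck_c : chainCard [ckc0] = 2 ∧ topK [ckc0] = 1 := by decide +kernel
theorem clx_lt : H16.allL (ltAll 5) clx_W = true := by decide +kernel
theorem clth_lt : H16.allL (ltAll 5) clth_W = true := by decide +kernel
theorem cltl0_h : 0 < cltl0.n ∧ 0 < cltl0.K ∧ cltl0.Pt 0 < 714 ∧ cltl0.Q (cltl0.Pt 0) = 0 := by decide +kernel
theorem cltl1_h : 0 < cltl1.n ∧ 0 < cltl1.K ∧ cltl1.Pt 0 < 714 ∧ cltl1.Q (cltl1.Pt 0) = 0 := by decide +kernel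
theorem cltl2_h : 0 < cltl2.n ∧ 0 < cltl2.K ∧ cltl2.Pt 0 < 714 ∧ cltl2.Q (cltl2.Pt 0) = 0 := by decide +kernel
theorem cltl3_h : 0 < cltl3.n ∧ 0 < cltl3.K ∧ cltl3.Pt 0 < 714 ∧ cltl3.Q (cltl3.Pt 0) = 0 := by decide +kernel
theorem cltl4_h : 0 < cltl4.n ∧ 0 < cltl4.K ∧ cltl4.Pt 0 < 714 ∧ cltl4.Q (cltl4.Pt 0) = 0 := by decide +kernel
theorem cltl5_h : 0 < cltl5.n ∧ 0 < cltl5.K ∧ cltl5.Pt 0 < 714 ∧ cltl5.Q (cltl5.Pt 0) = 0 := by decide +kernel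
theorem cltl6_h : 0 < cltl6.n ∧ 0 < cltl6.K ∧ cltl6.Pt 0 < 714 ∧ cltl6.Q (cltl6.Pt 0) = 0 := by decide +kernel
theorem clt_c : chainCard [cltl0, cltl1, cltl2, cltl3, cltl4, cltl5, cltl6] = 21504 := by decide +kernel
theorem cle_lt : H16.allL (ltAll 5) cle_W = true := by decide +kernel
theorem clc6_h : 0 < clc6.n ∧ 0 < clc6.K ∧ clc6.Pt 0 < 714 ∧ clc6.Q (clc6.Pt 0) = 0 := by decide +kernel
theorem clc5_h : 0 < clc5.n ∧ 0 < clc5.K ∧ clc5.Pt 0 < 714 ∧ clc5.Q (clc5.Pt 0) = 0 := by decide +kernel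
theorem clc4_h : 0 < clc4.n ∧ 0 < clc4.K ∧ clc4.Pt 0 < 714 ∧ clc4.Q (clc4.Pt 0) = 0 := by decide +kernel
theorem clc2_h : 0 < clc2.n ∧ 0 < clc2.K ∧ clc2.Pt 0 < 714 ∧ clc2.Q (clc2.Pt 0) = 0 := by decide +kernel
theorem clc1_h : 0 < clc1.n ∧ 0 < clc1.K ∧ clc1.Pt 0 < 714 ∧ clc1.Q (clc1.Pt 0) = 0 := by decide +kernel
theorem clc0_h : 0 < clc0.n ∧ 0 < clc0.K ∧ clc0.Pt 0 < 714 ∧ clc0.Q (clc0.Pt 0) = 0 := by decide +kernel
theorem cltn5y163_lt : H16.allL (ltAll 5) cltn5y163_W = true := by decide +kernel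
theorem cltr6k_lt : H16.allL (ltAll 5) cltr6k_W = true := by decide +kernel
theorem cl_c : chainCard [clc0, clc1, clc2, clc4, clc5, clc6] = 512 ∧ topK [clc0, clc1, clc2, clc4, clc5, clc6] = 9 := by decide +kernel
theorem nu_lt : H16.allL (ltAll 6) nu_W = true := by decide +kernel
theorem cnx_lt : H16.allL (ltAll 5) cnx_W = true := by decide +kernel
theorem cnth_lt : H16.allL (ltAll 5) cnth_W = true := by decide +kernel
theorem cntl0_h : 0 < cntl0.n ∧ 0 < cntl0.K ∧ cntl0.Pt 0 < 714 ∧ cntl0.Q (cntl0.Pt 0) = 0 := by decide +kernel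
theorem cntl1_h : 0 < cntl1.n ∧ 0 < cntl1.K ∧ cntl1.Pt 0 < 714 ∧ cntl1.Q (cntl1.Pt 0) = 0 := by decide +kernel
theorem cntl2_h : 0 < cntl2.n ∧ 0 < cntl2.K ∧ cntl2.Pt 0 < 714 ∧ cntl2.Q (cntl2.Pt 0) = 0 := by decide +kernel
theorem cntl3_h : 0 < cntl3.n ∧ 0 < cntl3.K ∧ cntl3.Pt 0 < 714 ∧ cntl3.Q (cntl3.Pt 0) = 0 := by decide +kernel
theorem cntl4_h : 0 < cntl4.n ∧ 0 < cntl4.K ∧ cntl4.Pt 0 < 714 ∧ cntl4.Q (cntl4.Pt 0) = 0 := by decide +kernel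
theorem cnt_c : chainCard [cntl0, cntl1, cntl2, cntl3, cntl4] = 21504 := by decide +kernel
theorem cne_lt : H16.allL (ltAll 5) cne_W = true := by decide +kernel
theorem cnc4_h : 0 < cnc4.n ∧ 0 < cnc4.K ∧ cnc4.Pt 0 < 714 ∧ cnc4.Q (cnc4.Pt 0) = 0 := by decide +kernel
theorem cnc3_h : 0 < cnc3.n ∧ 0 < cnc3.K ∧ cnc3.Pt 0 < 714 ∧ cnc3.Q (cnc3.Pt 0) = 0 := by decide +kernel
theorem cnc1_h : 0 < cnc1.n ∧ 0 < cnc1.K ∧ cnc1.Pt 0 < 714 ∧ cnc1.Q (cnc1.Pt 0) = 0 := by decide +kernel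
theorem cntn2y346_lt : H16.allL (ltAll 5) cntn2y346_W = true := by decide +kernel
theorem cntr3k_lt : H16.allL (ltAll 5) cntr3k_W = true := by decide +kernel
theorem cntn3y1_lt : H16.allL (ltAll 5) cntn3y1_W = true := by decide +kernel
theorem cntr4k_lt : H16.allL (ltAll 5) cntr4k_W = true := by decide +kernel
theorem cntn5y246_lt : H16.allL (ltAll 5) cntn5y246_W = true := by decide +kernel
theorem cntr6k_lt : H16.allL (ltAll 5) cntr6k_W = true := by decide +kernel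
theorem cntn6y26_lt : H16.allL (ltAll 5) cntn6y26_W = true := by decide +kernel
theorem cntr7k_lt : H16.allL (ltAll 5) cntr7k_W = true := by decide +kernel
theorem cntn7y1_lt : H16.allL (ltAll 5) cntn7y1_W = true := by decide +kernel
theorem cntr8k_lt : H16.allL (ltAll 5) cntr8k_W = true := by decide +kernel
theorem cntn6y346_lt : H16.allL (ltAll 5) cntn6y346_W = true := by decide +kernel
theorem cntr9k_lt : H16.allL (ltAll 5) cntr9k_W = true := by decide +kernel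
theorem cntn9y1_lt : H16.allL (ltAll 5) cntn9y1_W = true := by decide +kernel
theorem cntr10k_lt : H16.allL (ltAll 5) cntr10k_W = true := by decide +kernel
theorem cntn5y488_lt : H16.allL (ltAll 5) cntn5y488_W = true := by decide +kernel
theorem cntr11k_lt : H16.allL (ltAll 5) cntr11k_W = true := by decide +kernel
theorem cntn5y93_lt : H16.allL (ltAll 5) cntn5y93_W = true := by decide +kernel
theorem cntr12k_lt : H16.allL (ltAll 5) cntr12k_W = true := by decide +kernel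
theorem cn_c : chainCard [cnc1, cnc3, cnc4] = 16 ∧ topK [cnc1, cnc3, cnc4] = 4 := by decide +kernel
theorem zlx_lt : H16.allL (ltAll 6) zlx_W = true := by decide +kernel
theorem zlth_lt : H16.allL (ltAll 6) zlth_W = true := by decide +kernel
theorem zltl0_h : 0 < zltl0.n ∧ 0 < zltl0.K ∧ zltl0.Pt 0 < 714 ∧ zltl0.Q (zltl0.Pt 0) = 0 := by decide +kernel
theorem zltl1_h : 0 < zltl1.n ∧ 0 < zltl1.K ∧ zltl1.Pt 0 < 714 ∧ zltl1.Q (zltl1.Pt 0) = 0 := by decide +kernel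
theorem zltl2_h : 0 < zltl2.n ∧ 0 < zltl2.K ∧ zltl2.Pt 0 < 714 ∧ zltl2.Q (zltl2.Pt 0) = 0 := by decide +kernel
theorem zltl3_h : 0 < zltl3.n ∧ 0 < zltl3.K ∧ zltl3.Pt 0 < 714 ∧ zltl3.Q (zltl3.Pt 0) = 0 := by decide +kernel
theorem zlt_c : chainCard [zltl0, zltl1, zltl2, zltl3] = 43008 := by decide +kernel
theorem zle_lt : H16.allL (ltAll 6) zle_W = true := by decide +kernel
theorem zlc0_h : 0 < zlc0.n ∧ 0 < zlc0.K ∧ zlc0.Pt 0 < 714 ∧ zlc0.Q (zlc0.Pt 0) = 0 := by decide +kernel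
theorem zl_c : chainCard [zlc0] = 4 ∧ topK [zlc0] = 2 := by decide +kernel
theorem cpx_lt : H16.allL (ltAll 5) cpx_W = true := by decide +kernel
theorem cpth_lt : H16.allL (ltAll 5) cpth_W = true := by decide +kernel
theorem cptl0_h : 0 < cptl0.n ∧ 0 < cptl0.K ∧ cptl0.Pt 0 < 714 ∧ cptl0.Q (cptl0.Pt 0) = 0 := by decide +kernel
theorem cptl1_h : 0 < cptl1.n ∧ 0 < cptl1.K ∧ cptl1.Pt 0 < 714 ∧ cptl1.Q (cptl1.Pt 0) = 0 := by decide +kernel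
theorem cptl2_h : 0 < cptl2.n ∧ 0 < cptl2.K ∧ cptl2.Pt 0 < 714 ∧ cptl2.Q (cptl2.Pt 0) = 0 := by decide +kernel
theorem cptl3_h : 0 < cptl3.n ∧ 0 < cptl3.K ∧ cptl3.Pt 0 < 714 ∧ cptl3.Q (cptl3.Pt 0) = 0 := by decide +kernel
theorem cptl4_h : 0 < cptl4.n ∧ 0 < cptl4.K ∧ cptl4.Pt 0 < 714 ∧ cptl4.Q (cptl4.Pt 0) = 0 := by decide +kernel
theorem cptl5_h : 0 < cptl5.n ∧ 0 < cptl5.K ∧ cptl5.Pt 0 < 714 ∧ cptl5.Q (cptl5.Pt 0) = 0 := by decide +kernel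
theorem cptl6_h : 0 < cptl6.n ∧ 0 < cptl6.K ∧ cptl6.Pt 0 < 714 ∧ cptl6.Q (cptl6.Pt 0) = 0 := by decide +kernel
theorem cpt_c : chainCard [cptl0, cptl1, cptl2, cptl3, cptl4, cptl5, cptl6] = 21504 := by decide +kernel
theorem cpe_lt : H16.allL (ltAll 5) cpe_W = true := by decide +kernel
theorem cpc6_h : 0 < cpc6.n ∧ 0 < cpc6.K ∧ cpc6.Pt 0 < 714 ∧ cpc6.Q (cpc6.Pt 0) = 0 := by decide +kernel
theorem cpc3_h : 0 < cpc3.n ∧ 0 < cpc3.K ∧ cpc3.Pt 0 < 714 ∧ cpc3.Q (cpc3.Pt 0) = 0 := by decide +kernel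
theorem cpc2_h : 0 < cpc2.n ∧ 0 < cpc2.K ∧ cpc2.Pt 0 < 714 ∧ cpc2.Q (cpc2.Pt 0) = 0 := by decide +kernel
theorem cpc0_h : 0 < cpc0.n ∧ 0 < cpc0.K ∧ cpc0.Pt 0 < 714 ∧ cpc0.Q (cpc0.Pt 0) = 0 := by decide +kernel
theorem cp_c : chainCard [cpc0, cpc2, cpc3, cpc6] = 24 ∧ topK [cpc0, cpc2, cpc3, cpc6] = 4 := by decide +kernel
theorem rq_lt : H16.allL (ltAll 6) rq_W = true := by decide +kernel
theorem rv0_lt : H16.allL (ltAll 6) rv0_W = true := by decide +kernel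
theorem cl77a : H16.allL (fun l => ltAll (4 + 1) (l.2.1 ++ l.2.2)) cl77A = true := by decide +kernel
theorem rv1_lt : H16.allL (ltAll 6) rv1_W = true := by decide +kernel
theorem cl81a : H16.allL (fun l => ltAll (4 + 1) (l.2.1 ++ l.2.2)) cl81A = true := by decide +kernel
theorem cqth_lt : H16.allL (ltAll 6) cqth_W = true := by decide +kernel
theorem cqtl0_h : 0 < cqtl0.n ∧ 0 < cqtl0.K ∧ cqtl0.Pt 0 < 714 ∧ cqtl0.Q (cqtl0.Pt 0) = 0 := by decide +kernel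
theorem cqtl1_h : 0 < cqtl1.n ∧ 0 < cqtl1.K ∧ cqtl1.Pt 0 < 714 ∧ cqtl1.Q (cqtl1.Pt 0) = 0 := by decide +kernel
theorem cqtl2_h : 0 < cqtl2.n ∧ 0 < cqtl2.K ∧ cqtl2.Pt 0 < 714 ∧ cqtl2.Q (cqtl2.Pt 0) = 0 := by decide +kernel
theorem cqtl3_h : 0 < cqtl3.n ∧ 0 < cqtl3.K ∧ cqtl3.Pt 0 < 714 ∧ cqtl3.Q (cqtl3.Pt 0) = 0 := by decide +kernel
theorem cqt_c : chainCard [cqtl0, cqtl1, cqtl2, cqtl3] = 43008 := by decide +kernel
theorem cqe_lt : H16.allL (ltAll 6) cqe_W = true := by decide +kernel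
theorem cqc0_h : 0 < cqc0.n ∧ 0 < cqc0.K ∧ cqc0.Pt 0 < 714 ∧ cqc0.Q (cqc0.Pt 0) = 0 := by decide +kernel
theorem cq_c : chainCard [cqc0] = 2 ∧ topK [cqc0] = 1 := by decide +kernel
theorem cvx_lt : H16.allL (ltAll 6) cvx_W = true := by decide +kernel
theorem cvth_lt : H16.allL (ltAll 6) cvth_W = true := by decide +kernel
theorem cvtl0_h : 0 < cvtl0.n ∧ 0 < cvtl0.K ∧ cvtl0.Pt 0 < 714 ∧ cvtl0.Q (cvtl0.Pt 0) = 0 := by decide +kernel
theorem cvtl1_h : 0 < cvtl1.n ∧ 0 < cvtl1.K ∧ cvtl1.Pt 0 < 714 ∧ cvtl1.Q (cvtl1.Pt 0) = 0 := by decide +kernel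
theorem cvtl2_h : 0 < cvtl2.n ∧ 0 < cvtl2.K ∧ cvtl2.Pt 0 < 714 ∧ cvtl2.Q (cvtl2.Pt 0) = 0 := by decide +kernel
theorem cvtl3_h : 0 < cvtl3.n ∧ 0 < cvtl3.K ∧ cvtl3.Pt 0 < 714 ∧ cvtl3.Q (cvtl3.Pt 0) = 0 := by decide +kernel
theorem cvtl4_h : 0 < cvtl4.n ∧ 0 < cvtl4.K ∧ cvtl4.Pt 0 < 714 ∧ cvtl4.Q (cvtl4.Pt 0) = 0 := by decide +kernel
theorem cvtl5_h : 0 < cvtl5.n ∧ 0 < cvtl5.K ∧ cvtl5.Pt 0 < 714 ∧ cvtl5.Q (cvtl5.Pt 0) = 0 := by decide +kernel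
theorem cvtl6_h : 0 < cvtl6.n ∧ 0 < cvtl6.K ∧ cvtl6.Pt 0 < 714 ∧ cvtl6.Q (cvtl6.Pt 0) = 0 := by decide +kernel
theorem cvt_c : chainCard [cvtl0, cvtl1, cvtl2, cvtl3, cvtl4, cvtl5, cvtl6] = 43008 := by decide +kernel
theorem cve_lt : H16.allL (ltAll 6) cve_W = true := by decide +kernel
theorem cvc3_h : 0 < cvc3.n ∧ 0 < cvc3.K ∧ cvc3.Pt 0 < 714 ∧ cvc3.Q (cvc3.Pt 0) = 0 := by decide +kernel
theorem cvc0_h : 0 < cvc0.n ∧ 0 < cvc0.K ∧ cvc0.Pt 0 < 714 ∧ cvc0.Q (cvc0.Pt 0) = 0 := by decide +kernel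
theorem cv_c : chainCard [cvc0, cvc3] = 12 ∧ topK [cvc0, cvc3] = 2 := by decide +kernel
theorem w_lt : H16.allL (ltAll 6) wW = true := by decide +kernel
theorem wG_lt : H16.allL (ltAll 12) wG = true := by decide +kernel
theorem u_lt : H16.allL (ltAll 11) uW = true := by decide +kernel
theorem cltn5_1_0 : allZ (cltn5.ent Tm clth_P clx_P clx_P cle_P (nat_lit 5) (nat_lit 1) B1 cltl0 [cltl1, cltl2, cltl3, cltl4, cltl5, cltl6] (memO clc0)) (nat_lit 0) (nat_lit 42) = true := by decide +kernel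
theorem le49_0 : allZ (leEnt t_P ctx_P 10 B1 le49W) (nat_lit 0) (nat_lit 4) = true := by decide +kernel
theorem cltn3_0 : (Nat.ble cltl2.K 12 && Nat.beq (ltAll 714 [cltl1.Pt 0, cltl0.Pt 0]) 0 && kChk cle_P clx_P cltn3.Kn 1 B1 [cltl1.Pt 0, cltl0.Pt 0] && H16.allL (ltAll 1) cltn3.pre && planOK clth_P clx_P 1 (cltl2.Pt 0) cltn3.plan [cltl2, cltl3, cltl4, cltl5, cltl6]) = true := by decide +kernel
theorem en76b_0 : allZ (enEnt rv0_Q en76T en76W (nat_lit 4)) (nat_lit 0) (nat_lit 16) = true := by decide +kernel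
theorem en80b_0 : allZ (enEnt rv1_Q en80T en80W (nat_lit 4)) (nat_lit 0) (nat_lit 16) = true := by decide +kernel
theorem cm38 : 27 < 56 ∧ allZ (fun j => H16.force j (cmEnt (pk (wdsP Tm wW) [28, 29, 30, 20]) (wdsP Tm wW) B1 27)) 0 4 = true := by decide +kernel
theorem cn_f4 : (Nat.ble cnc4.K 4 && Nat.ble (topK []) cnc4.K && Nat.beq (cnc4.Pt 0) (cntl4.Pt 0) && Nat.beq (ltAll 714 [cntl3.Pt 0, cntl2.Pt 0, cntl1.Pt 0, cntl0.Pt 0]) 0 && kChk cne_P cnx_P cnc4.K 2 B1 [cntl3.Pt 0, cntl2.Pt 0, cntl1.Pt 0, cntl0.Pt 0]) = true := by decide +kernel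
theorem cm39 : 15 < 56 ∧ allZ (fun j => H16.force j (cmEnt (pk (wdsP Tm wW) [28, 29, 30, 20]) (wdsP Tm wW) B1 15)) 0 4 = true := by decide +kernel
theorem cktl1_e_0 : allZ (dent cktl1 ckth_P (nat_lit 714)) (nat_lit 0) (nat_lit 63) = true := by decide +kernel
theorem wwtn0_0 : (Nat.ble wwtl0.K 11 && Nat.beq (ltAll 714 []) 0 && kChk wwe_P wwx_P wwtn0.Kn 3 B1 [] && H16.allL (ltAll 3) wwtn0.pre && planOK wwth_P wwx_P 3 (wwtl0.Pt 0) wwtn0.plan [wwtl0, wwtl1, wwtl2]) = true := by decide +kernel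
theorem cftn7_1_0 : allZ (cftn7.ent Tm cfth_P cfx_P cfx_P cfe_P (nat_lit 6) (nat_lit 1) B1 cftl0 [cftl1, cftl2, cftl3, cftl4, cftl5, cftl6, cftl7] (memO cfc0)) (nat_lit 0) (nat_lit 42) = true := by decide +kernel
theorem cl14_0 : allZ (clEnt wwe_P (wdsP Tm wW) 55 56 B1 cl14L en13W) (nat_lit 0) (nat_lit 4) = true := by decide +kernel
theorem cvtn1_1_0 : allZ (cvtn1.ent Tm cvth_P cvx_P cvx_P cve_P (nat_lit 6) (nat_lit 2) B1 cvtl0 [cvtl1, cvtl2, cvtl3, cvtl4, cvtl5, cvtl6] (memO cvc0)) (nat_lit 0) (nat_lit 42) = true := by decide +kernel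
theorem bzp_f5 : (Nat.ble bzpc5.K 3 && Nat.ble (topK []) bzpc5.K && Nat.beq (bzpc5.Pt 0) (bzptl5.Pt 0) && Nat.beq (ltAll 714 [bzptl4.Pt 0, bzptl3.Pt 0, bzptl2.Pt 0, bzptl1.Pt 0, bzptl0.Pt 0]) 0 && kChk bzpe_P bzpx_P bzpc5.K 4 B1 [bzptl4.Pt 0, bzptl3.Pt 0, bzptl2.Pt 0, bzptl1.Pt 0, bzptl0.Pt 0]) = true := by decide +kernel
theorem wzptn0_0 : (Nat.ble wzptl0.K 11 && Nat.beq (ltAll 714 []) 0 && kChk wzpe_P wzpx_P wzptn0.Kn 3 B1 [] && H16.allL (ltAll 3) wzptn0.pre && planOK wzpth_P wzpx_P 3 (wzptl0.Pt 0) wzptn0.plan [wzptl0, wzptl1, wzptl2, wzptl3]) = true := by decide +kernel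
theorem cl59_0 : allZ (clEnt zle_P (wdsP Tm wW) 55 56 B1 cl59L en58W) (nat_lit 0) (nat_lit 4) = true := by decide +kernel
theorem bzptn0_0 : (Nat.ble bzptl5.K 16 && Nat.beq (ltAll 714 [bzptl4.Pt 0, bzptl3.Pt 0, bzptl2.Pt 0, bzptl1.Pt 0, bzptl0.Pt 0]) 0 && kChk bzpe_P bzpx_P bzptn0.Kn 4 B1 [bzptl4.Pt 0, bzptl3.Pt 0, bzptl2.Pt 0, bzptl1.Pt 0, bzptl0.Pt 0] && H16.allL (ltAll 4) bzptn0.pre && planOK bzpth_P bzpx_P 4 (bzptl5.Pt 0) bzptn0.plan [bzptl5]) = true := by decide +kernel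
theorem bwtn0_0 : (Nat.ble bwtl5.K 14 && Nat.beq (ltAll 714 [bwtl4.Pt 0, bwtl3.Pt 0, bwtl2.Pt 0, bwtl1.Pt 0, bwtl0.Pt 0]) 0 && kChk bwe_P bwx_P bwtn0.Kn 4 B1 [bwtl4.Pt 0, bwtl3.Pt 0, bwtl2.Pt 0, bwtl1.Pt 0, bwtl0.Pt 0] && H16.allL (ltAll 4) bwtn0.pre && planOK bwth_P bwx_P 4 (bwtl5.Pt 0) bwtn0.plan [bwtl5]) = true := by decide +kernel
theorem le55_0 : allZ (leEnt t_P nu_P 10 B1 le55W) (nat_lit 0) (nat_lit 4) = true := by decide +kernel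
theorem wb2tn0_0 : (Nat.ble wb2tl5.K 14 && Nat.beq (ltAll 714 [wb2tl4.Pt 0, wb2tl3.Pt 0, wb2tl2.Pt 0, wb2tl1.Pt 0, wb2tl0.Pt 0]) 0 && kChk wb2e_P wb2x_P wb2tn0.Kn 4 B1 [wb2tl4.Pt 0, wb2tl3.Pt 0, wb2tl2.Pt 0, wb2tl1.Pt 0, wb2tl0.Pt 0] && H16.allL (ltAll 4) wb2tn0.pre && planOK wb2th_P wb2x_P 4 (wb2tl5.Pt 0) wb2tn0.plan [wb2tl5]) = true := by decide +kernel
theorem ww_f0 : (Nat.ble wwc0.K 2 && Nat.ble (topK []) wwc0.K && Nat.beq (wwc0.Pt 0) (wwtl0.Pt 0) && Nat.beq (ltAll 714 []) 0 && kChk wwe_P wwx_P wwc0.K 3 B1 []) = true := by decide +kernel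
theorem cttn0_0 : (Nat.ble cttl0.K 12 && Nat.beq (ltAll 714 []) 0 && kChk cte_P ctx_P cttn0.Kn 4 B1 [] && H16.allL (ltAll 4) cttn0.pre && planOK ctth_P ctx_P 4 (cttl0.Pt 0) cttn0.plan [cttl0, cttl1, cttl2]) = true := by decide +kernel
theorem cf_f3 : (Nat.ble cfc3.K 6 && Nat.ble (topK [cfc7]) cfc3.K && Nat.beq (cfc3.Pt 0) (cftl3.Pt 0) && Nat.beq (ltAll 714 [cftl2.Pt 0, cftl1.Pt 0, cftl0.Pt 0]) 0 && kChk cfe_P cfx_P cfc3.K 1 B1 [cftl2.Pt 0, cftl1.Pt 0, cftl0.Pt 0]) = true := by decide +kernel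
theorem cntn3_0 : (Nat.ble cntl3.K 9 && Nat.beq (ltAll 714 [cntl2.Pt 0, cntl1.Pt 0, cntl0.Pt 0]) 0 && kChk cntr3k_P cntn2y346_P cntn3.Kn 2 B1 [cntl2.Pt 0, cntl1.Pt 0, cntl0.Pt 0] && H16.allL (ltAll 2) cntn3.pre && planOK cnth_P cnx_P 2 (cntl3.Pt 0) cntn3.plan [cntl3, cntl4]) = true := by decide +kernel
theorem cq_f0 : (Nat.ble cqc0.K 1 && Nat.ble (topK []) cqc0.K && Nat.beq (cqc0.Pt 0) (cqtl0.Pt 0) && Nat.beq (ltAll 714 []) 0 && kChk cqe_P rq_P cqc0.K 6 B1 []) = true := by decide +kernel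
theorem cntn7_0 : (Nat.ble cntl3.K 9 && Nat.beq (ltAll 714 [cntl2.Pt 0, cntl1.Pt 0, cntl0.Pt 0]) 0 && kChk cntr7k_P cntn6y26_P cntn7.Kn 2 B1 [cntl2.Pt 0, cntl1.Pt 0, cntl0.Pt 0] && H16.allL (ltAll 2) cntn7.pre && planOK cnth_P cnx_P 2 (cntl3.Pt 0) cntn7.plan [cntl3, cntl4]) = true := by decide +kernel
theorem cntn9_0 : (Nat.ble cntl3.K 9 && Nat.beq (ltAll 714 [cntl2.Pt 0, cntl1.Pt 0, cntl0.Pt 0]) 0 && kChk cntr9k_P cntn6y346_P cntn9.Kn 2 B1 [cntl2.Pt 0, cntl1.Pt 0, cntl0.Pt 0] && H16.allL (ltAll 2) cntn9.pre && planOK cnth_P cnx_P 2 (cntl3.Pt 0) cntn9.plan [cntl3, cntl4]) = true := by decide +kernel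
theorem cntn1_0 : (Nat.ble cntl3.K 9 && Nat.beq (ltAll 714 [cntl2.Pt 0, cntl1.Pt 0, cntl0.Pt 0]) 0 && kChk cne_P cnx_P cntn1.Kn 2 B1 [cntl2.Pt 0, cntl1.Pt 0, cntl0.Pt 0] && H16.allL (ltAll 2) cntn1.pre && planOK cnth_P cnx_P 2 (cntl3.Pt 0) cntn1.plan [cntl3, cntl4]) = true := by decide +kernel
theorem cltn2_0 : (Nat.ble cltl4.K 12 && Nat.beq (ltAll 714 [cltl3.Pt 0, cltl2.Pt 0, cltl1.Pt 0, cltl0.Pt 0]) 0 && kChk cle_P clx_P cltn2.Kn 1 B1 [cltl3.Pt 0, cltl2.Pt 0, cltl1.Pt 0, cltl0.Pt 0] && H16.allL (ltAll 1) cltn2.pre && planOK clth_P clx_P 1 (cltl4.Pt 0) cltn2.plan [cltl4, cltl5, cltl6]) = true := by decide +kernel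
theorem cm21 : 9 < 56 ∧ allZ (fun j => H16.force j (cmEnt wb1x_P (wdsP Tm wW) B1 9)) 0 4 = true := by decide +kernel
theorem cm12 : 7 < 56 ∧ allZ (fun j => H16.force j (cmEnt bzpx_P (wdsP Tm wW) B1 7)) 0 4 = true := by decide +kernel
theorem cptn3_0 : (Nat.ble cptl0.K 10 && Nat.beq (ltAll 714 []) 0 && kChk cpe_P cpx_P cptn3.Kn 1 B1 [] && H16.allL (ltAll 1) cptn3.pre && planOK cpth_P cpx_P 1 (cptl0.Pt 0) cptn3.plan [cptl0, cptl1, cptl2, cptl3, cptl4, cptl5, cptl6]) = true := by decide +kernel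
theorem en10b_0 : allZ (enEnt bzpe_P en10T en10W (nat_lit 4)) (nat_lit 0) (nat_lit 8) = true := by decide +kernel
theorem cvtn1_0 : (Nat.ble cvtl0.K 16 && Nat.beq (ltAll 714 []) 0 && kChk cve_P cvx_P cvtn1.Kn 2 B1 [] && H16.allL (ltAll 2) cvtn1.pre && planOK cvth_P cvx_P 2 (cvtl0.Pt 0) cvtn1.plan [cvtl0, cvtl1, cvtl2, cvtl3, cvtl4, cvtl5, cvtl6]) = true := by decide +kernel
theorem cm28 : 18 < 56 ∧ allZ (fun j => H16.force j (cmEnt wb2x_P (wdsP Tm wW) B1 18)) 0 4 = true := by decide +kernel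
theorem cltn6_0 : (Nat.ble cltl1.K 12 && Nat.beq (ltAll 714 [cltl0.Pt 0]) 0 && kChk cltr6k_P cltn5y163_P cltn6.Kn 1 B1 [cltl0.Pt 0] && H16.allL (ltAll 1) cltn6.pre && planOK clth_P clx_P 1 (cltl1.Pt 0) cltn6.plan [cltl1, cltl2, cltl3, cltl4, cltl5, cltl6]) = true := by decide +kernel
theorem cf_f2 : (Nat.ble cfc2.K 6 && Nat.ble (topK [cfc3, cfc7]) cfc2.K && Nat.beq (cfc2.Pt 0) (cftl2.Pt 0) && Nat.beq (ltAll 714 [cftl1.Pt 0, cftl0.Pt 0]) 0 && kChk cfe_P cfx_P cfc2.K 1 B1 [cftl1.Pt 0, cftl0.Pt 0]) = true := by decide +kernel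
theorem cm18 : 8 < 56 ∧ allZ (fun j => H16.force j (cmEnt bwx_P (wdsP Tm wW) B1 8)) 0 4 = true := by decide +kernel
theorem cftn7_0 : (Nat.ble cftl0.K 12 && Nat.beq (ltAll 714 []) 0 && kChk cfe_P cfx_P cftn7.Kn 1 B1 [] && H16.allL (ltAll 1) cftn7.pre && planOK cfth_P cfx_P 1 (cftl0.Pt 0) cftn7.plan [cftl0, cftl1, cftl2, cftl3, cftl4, cftl5, cftl6, cftl7]) = true := by decide +kernel
theorem cntn2_1_0 : allZ (cntn2.ent Tm cnth_P cnx_P cnx_P cne_P (nat_lit 5) (nat_lit 2) B1 cntl1 [cntl2, cntl3, cntl4] (memO cnc1)) (nat_lit 0) (nat_lit 16) = true := by decide +kernel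
theorem cntn8_0 : (Nat.ble cntl4.K 9 && Nat.beq (ltAll 714 [cntl3.Pt 0, cntl2.Pt 0, cntl1.Pt 0, cntl0.Pt 0]) 0 && kChk cntr8k_P cntn7y1_P cntn8.Kn 2 B1 [cntl3.Pt 0, cntl2.Pt 0, cntl1.Pt 0, cntl0.Pt 0] && H16.allL (ltAll 2) cntn8.pre && planOK cnth_P cnx_P 2 (cntl4.Pt 0) cntn8.plan [cntl4]) = true := by decide +kernel
theorem cntn10_0 : (Nat.ble cntl4.K 9 && Nat.beq (ltAll 714 [cntl3.Pt 0, cntl2.Pt 0, cntl1.Pt 0, cntl0.Pt 0]) 0 && kChk cntr10k_P cntn9y1_P cntn10.Kn 2 B1 [cntl3.Pt 0, cntl2.Pt 0, cntl1.Pt 0, cntl0.Pt 0] && H16.allL (ltAll 2) cntn10.pre && planOK cnth_P cnx_P 2 (cntl4.Pt 0) cntn10.plan [cntl4]) = true := by decide +kernel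
theorem cs68_a : allZ2 (cmEnt t_P t_P B1) (nat_lit 2) (nat_lit 2) = true := by decide +kernel
theorem cntn4_0 : (Nat.ble cntl4.K 9 && Nat.beq (ltAll 714 [cntl3.Pt 0, cntl2.Pt 0, cntl1.Pt 0, cntl0.Pt 0]) 0 && kChk cntr4k_P cntn3y1_P cntn4.Kn 2 B1 [cntl3.Pt 0, cntl2.Pt 0, cntl1.Pt 0, cntl0.Pt 0] && H16.allL (ltAll 2) cntn4.pre && planOK cnth_P cnx_P 2 (cntl4.Pt 0) cntn4.plan [cntl4]) = true := by decide +kernel
theorem cm1 : 0 < 56 ∧ allZ (fun j => H16.force j (cmEnt Tm (wdsP Tm wW) B1 0)) 0 6 = true := by decide +kernel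
theorem cntn11_1_0 : allZ (cntn11.ent Tm cnth_P cnx_P cntn5y488_P cntr11k_P (nat_lit 5) (nat_lit 2) B1 cntl1 [cntl2, cntl3, cntl4] (fun _ => nat_lit 1)) (nat_lit 0) (nat_lit 16) = true := by decide +kernel
theorem wzp_f0 : (Nat.ble wzpc0.K 2 && Nat.ble (topK []) wzpc0.K && Nat.beq (wzpc0.Pt 0) (wzptl0.Pt 0) && Nat.beq (ltAll 714 []) 0 && kChk wzpe_P wzpx_P wzpc0.K 3 B1 []) = true := by decide +kernel
theorem cp_f6 : (Nat.ble cpc6.K 4 && Nat.ble (topK []) cpc6.K && Nat.beq (cpc6.Pt 0) (cptl6.Pt 0) && Nat.beq (ltAll 714 [cptl5.Pt 0, cptl4.Pt 0, cptl3.Pt 0, cptl2.Pt 0, cptl1.Pt 0, cptl0.Pt 0]) 0 && kChk cpe_P cpx_P cpc6.K 1 B1 [cptl5.Pt 0, cptl4.Pt 0, cptl3.Pt 0, cptl2.Pt 0, cptl1.Pt 0, cptl0.Pt 0]) = true := by decide +kernel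
theorem co4_0 : allZ (comEnt Tm Tm 4 B1 co4U co4V) (nat_lit 0) (nat_lit 4) = true := by decide +kernel
theorem cvtl0_e_0 : allZ (dent cvtl0 cvth_P (nat_lit 714)) (nat_lit 0) (nat_lit 41) = true := by decide +kernel
theorem cl8_0 : allZ (clEnt wzpe_P (wdsP Tm wW) 55 56 B1 cl8L en7W) (nat_lit 0) (nat_lit 4) = true := by decide +kernel
theorem cltl0_e_0 : allZ (dent cltl0 clth_P (nat_lit 714)) (nat_lit 0) (nat_lit 41) = true := by decide +kernel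
theorem bzptl0_e_0 : allZ (dent bzptl0 bzpth_P (nat_lit 714)) (nat_lit 0) (nat_lit 41) = true := by decide +kernel
theorem cftn4_0 : (Nat.ble cftl6.K 12 && Nat.beq (ltAll 714 [cftl5.Pt 0, cftl4.Pt 0, cftl3.Pt 0, cftl2.Pt 0, cftl1.Pt 0, cftl0.Pt 0]) 0 && kChk cftr4k_P cftn3y114_P cftn4.Kn 1 B1 [cftl5.Pt 0, cftl4.Pt 0, cftl3.Pt 0, cftl2.Pt 0, cftl1.Pt 0, cftl0.Pt 0] && H16.allL (ltAll 1) cftn4.pre && planOK cfth_P cfx_P 1 (cftl6.Pt 0) cftn4.plan [cftl6, cftl7]) = true := by decide +kernel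
theorem wb2tl0_e_0 : allZ (dent wb2tl0 wb2th_P (nat_lit 714)) (nat_lit 0) (nat_lit 41) = true := by decide +kernel
theorem bwtl0_e_0 : allZ (dent bwtl0 bwth_P (nat_lit 714)) (nat_lit 0) (nat_lit 41) = true := by decide +kernel
theorem cntn12_1_0 : allZ (cntn12.ent Tm cnth_P cnx_P cntn5y93_P cntr12k_P (nat_lit 5) (nat_lit 2) B1 cntl1 [cntl2, cntl3, cntl4] (fun _ => nat_lit 1)) (nat_lit 0) (nat_lit 16) = true := by decide +kernel
theorem cp_f2 : (Nat.ble cpc2.K 4 && Nat.ble (topK [cpc3, cpc6]) cpc2.K && Nat.beq (cpc2.Pt 0) (cptl2.Pt 0) && Nat.beq (ltAll 714 [cptl1.Pt 0, cptl0.Pt 0]) 0 && kChk cpe_P cpx_P cpc2.K 1 B1 [cptl1.Pt 0, cptl0.Pt 0]) = true := by decide +kernel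
theorem cm15 : 2 < 56 ∧ allZ (fun j => H16.force j (cmEnt wwx_P (wdsP Tm wW) B1 2)) 0 3 = true := by decide +kernel
theorem cp_f3 : (Nat.ble cpc3.K 4 && Nat.ble (topK [cpc6]) cpc3.K && Nat.beq (cpc3.Pt 0) (cptl3.Pt 0) && Nat.beq (ltAll 714 [cptl2.Pt 0, cptl1.Pt 0, cptl0.Pt 0]) 0 && kChk cpe_P cpx_P cpc3.K 1 B1 [cptl2.Pt 0, cptl1.Pt 0, cptl0.Pt 0]) = true := by decide +kernel
theorem cftl0_e_0 : allZ (dent cftl0 cfth_P (nat_lit 714)) (nat_lit 0) (nat_lit 41) = true := by decide +kernel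
theorem cltn1_0 : (Nat.ble cltl5.K 12 && Nat.beq (ltAll 714 [cltl4.Pt 0, cltl3.Pt 0, cltl2.Pt 0, cltl1.Pt 0, cltl0.Pt 0]) 0 && kChk cle_P clx_P cltn1.Kn 1 B1 [cltl4.Pt 0, cltl3.Pt 0, cltl2.Pt 0, cltl1.Pt 0, cltl0.Pt 0] && H16.allL (ltAll 1) cltn1.pre && planOK clth_P clx_P 1 (cltl5.Pt 0) cltn1.plan [cltl5, cltl6]) = true := by decide +kernel
theorem cp_f0 : (Nat.ble cpc0.K 4 && Nat.ble (topK [cpc2, cpc3, cpc6]) cpc0.K && Nat.beq (cpc0.Pt 0) (cptl0.Pt 0) && Nat.beq (ltAll 714 []) 0 && kChk cpe_P cpx_P cpc0.K 1 B1 []) = true := by decide +kernel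
theorem cntl0_e_0 : allZ (dent cntl0 cnth_P (nat_lit 714)) (nat_lit 0) (nat_lit 41) = true := by decide +kernel
theorem ct_f0 : (Nat.ble ctc0.K 1 && Nat.ble (topK []) ctc0.K && Nat.beq (ctc0.Pt 0) (cttl0.Pt 0) && Nat.beq (ltAll 714 []) 0 && kChk cte_P ctx_P ctc0.K 4 B1 []) = true := by decide +kernel
theorem cptl0_e_0 : allZ (dent cptl0 cpth_P (nat_lit 714)) (nat_lit 0) (nat_lit 41) = true := by decide +kernel
theorem cptn2_0 : (Nat.ble cptl2.K 10 && Nat.beq (ltAll 714 [cptl1.Pt 0, cptl0.Pt 0]) 0 && kChk cpe_P cpx_P cptn2.Kn 1 B1 [cptl1.Pt 0, cptl0.Pt 0] && H16.allL (ltAll 1) cptn2.pre && planOK cpth_P cpx_P 1 (cptl2.Pt 0) cptn2.plan [cptl2, cptl3, cptl4, cptl5, cptl6]) = true := by decide +kernel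
theorem cf_f0 : (Nat.ble cfc0.K 6 && Nat.ble (topK [cfc2, cfc3, cfc7]) cfc0.K && Nat.beq (cfc0.Pt 0) (cftl0.Pt 0) && Nat.beq (ltAll 714 []) 0 && kChk cfe_P cfx_P cfc0.K 1 B1 []) = true := by decide +kernel
theorem cftn2_0 : (Nat.ble cftl7.K 12 && Nat.beq (ltAll 714 [cftl6.Pt 0, cftl5.Pt 0, cftl4.Pt 0, cftl3.Pt 0, cftl2.Pt 0, cftl1.Pt 0, cftl0.Pt 0]) 0 && kChk cftr2k_P cftn1y60_P cftn2.Kn 1 B1 [cftl6.Pt 0, cftl5.Pt 0, cftl4.Pt 0, cftl3.Pt 0, cftl2.Pt 0, cftl1.Pt 0, cftl0.Pt 0] && H16.allL (ltAll 1) cftn2.pre && planOK cfth_P cfx_P 1 (cftl7.Pt 0) cftn2.plan [cftl7]) = true := by decide +kernel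
theorem en13a_a : allZ2 (tupEnt wwe_P en13T en13N (nat_lit 714) (nat_lit 4) (nat_lit 4)) (nat_lit 2) (nat_lit 4) = true := by decide +kernel
theorem en58a_a : allZ2 (tupEnt zle_P en58T en58N (nat_lit 714) (nat_lit 4) (nat_lit 4)) (nat_lit 2) (nat_lit 4) = true := by decide +kernel
theorem le89_0 : allZ (leEnt (pk (wdsP Tm wW) [0, 1, 4, 4]) cve_P 4 B1 le89W) (nat_lit 0) (nat_lit 2) = true := by decide +kernel
theorem cv_f3 : (Nat.ble cvc3.K 2 && Nat.ble (topK []) cvc3.K && Nat.beq (cvc3.Pt 0) (cvtl3.Pt 0) && Nat.beq (ltAll 714 [cvtl2.Pt 0, cvtl1.Pt 0, cvtl0.Pt 0]) 0 && kChk cve_P cvx_P cvc3.K 2 B1 [cvtl2.Pt 0, cvtl1.Pt 0, cvtl0.Pt 0]) = true := by decide +kernel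
theorem cv_f0 : (Nat.ble cvc0.K 2 && Nat.ble (topK [cvc3]) cvc0.K && Nat.beq (cvc0.Pt 0) (cvtl0.Pt 0) && Nat.beq (ltAll 714 []) 0 && kChk cve_P cvx_P cvc0.K 2 B1 []) = true := by decide +kernel
theorem co69_0 : allZ (comEnt t_P t_P 10 B1 co69U co69V) (nat_lit 0) (nat_lit 1) = true := by decide +kernel
theorem cftn6_0 : (Nat.ble cftl2.K 12 && Nat.beq (ltAll 714 [cftl1.Pt 0, cftl0.Pt 0]) 0 && kChk cfe_P cfx_P cftn6.Kn 1 B1 [cftl1.Pt 0, cftl0.Pt 0] && H16.allL (ltAll 1) cftn6.pre && planOK cfth_P cfx_P 1 (cftl2.Pt 0) cftn6.plan [cftl2, cftl3, cftl4, cftl5, cftl6, cftl7]) = true := by decide +kernel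
theorem cm54 : 0 < 56 ∧ allZ (fun j => H16.force j (cmEnt Tm (wdsP Tm wW) B1 0)) 0 4 = true := by decide +kernel
theorem cntn0_0 : (Nat.ble cntl4.K 9 && Nat.beq (ltAll 714 [cntl3.Pt 0, cntl2.Pt 0, cntl1.Pt 0, cntl0.Pt 0]) 0 && kChk cne_P cnx_P cntn0.Kn 2 B1 [cntl3.Pt 0, cntl2.Pt 0, cntl1.Pt 0, cntl0.Pt 0] && H16.allL (ltAll 2) cntn0.pre && planOK cnth_P cnx_P 2 (cntl4.Pt 0) cntn0.plan [cntl4]) = true := by decide +kernel
theorem tl0_e_0 : allZ (dent tl0 (wdsP tP te) (nat_lit 336)) (nat_lit 0) (nat_lit 15) = true := by decide +kernel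
theorem en13b_0 : allZ (enEnt wwe_P en13T en13W (nat_lit 4)) (nat_lit 0) (nat_lit 4) = true := by decide +kernel
theorem en58b_0 : allZ (enEnt zle_P en58T en58W (nat_lit 4)) (nat_lit 0) (nat_lit 4) = true := by decide +kernel
theorem cvtn0_0 : (Nat.ble cvtl3.K 16 && Nat.beq (ltAll 714 [cvtl2.Pt 0, cvtl1.Pt 0, cvtl0.Pt 0]) 0 && kChk cve_P cvx_P cvtn0.Kn 2 B1 [cvtl2.Pt 0, cvtl1.Pt 0, cvtl0.Pt 0] && H16.allL (ltAll 2) cvtn0.pre && planOK cvth_P cvx_P 2 (cvtl3.Pt 0) cvtn0.plan [cvtl3, cvtl4, cvtl5, cvtl6]) = true := by decide +kernel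
theorem t_f3 : (Nat.ble tl3.K 40 && Nat.ble (topK []) tl3.K && fixLetters (wdsP tP te) (topK []) (tl3.Pt 0)) = true := by decide +kernel
theorem t_f2 : (Nat.ble tl2.K 40 && Nat.ble (topK [tl3]) tl2.K && fixLetters (wdsP tP te) (topK [tl3]) (tl2.Pt 0)) = true := by decide +kernel
theorem t_f1 : (Nat.ble tl1.K 40 && Nat.ble (topK [tl2, tl3]) tl1.K && fixLetters (wdsP tP te) (topK [tl2, tl3]) (tl1.Pt 0)) = true := by decide +kernel
theorem t_f0 : (Nat.ble tl0.K 40 && Nat.ble (topK [tl1, tl2, tl3]) tl0.K && fixLetters (wdsP tP te) (topK [tl1, tl2, tl3]) (tl0.Pt 0)) = true := by decide +kernel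
theorem en7a_a : allZ2 (tupEnt wzpe_P en7T en7N (nat_lit 714) (nat_lit 4) (nat_lit 4)) (nat_lit 2) (nat_lit 4) = true := by decide +kernel
theorem cm9 : 1 < 56 ∧ allZ (fun j => H16.force j (cmEnt wzpx_P (wdsP Tm wW) B1 1)) 0 3 = true := by decide +kernel
theorem ns70_a : allZ2 (nrmEnt t_P Tm (nat_lit 1) B1 ns70W) (nat_lit 4) (nat_lit 1) = true := by decide +kernel
theorem cptn1_0 : (Nat.ble cptl3.K 10 && Nat.beq (ltAll 714 [cptl2.Pt 0, cptl1.Pt 0, cptl0.Pt 0]) 0 && kChk cpe_P cpx_P cptn1.Kn 1 B1 [cptl2.Pt 0, cptl1.Pt 0, cptl0.Pt 0] && H16.allL (ltAll 1) cptn1.pre && planOK cpth_P cpx_P 1 (cptl3.Pt 0) cptn1.plan [cptl3, cptl4, cptl5, cptl6]) = true := by decide +kernel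
theorem cftn5_0 : (Nat.ble cftl3.K 12 && Nat.beq (ltAll 714 [cftl2.Pt 0, cftl1.Pt 0, cftl0.Pt 0]) 0 && kChk cfe_P cfx_P cftn5.Kn 1 B1 [cftl2.Pt 0, cftl1.Pt 0, cftl0.Pt 0] && H16.allL (ltAll 1) cftn5.pre && planOK cfth_P cfx_P 1 (cftl3.Pt 0) cftn5.plan [cftl3, cftl4, cftl5, cftl6, cftl7]) = true := by decide +kernel
theorem cktn0_0 : (Nat.ble cktl0.K 11 && Nat.beq (ltAll 714 []) 0 && kChk cke_P ckx_P cktn0.Kn 2 B1 [] && H16.allL (ltAll 2) cktn0.pre && planOK ckth_P ckx_P 2 (cktl0.Pt 0) cktn0.plan [cktl0, cktl1]) = true := by decide +kernel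
theorem le73_0 : allZ (leEnt pf_P (pk (wdsP Tm wW) [4, 50]) 1 B1 le73W) (nat_lit 0) (nat_lit 2) = true := by decide +kernel
theorem cltn0_0 : (Nat.ble cltl6.K 12 && Nat.beq (ltAll 714 [cltl5.Pt 0, cltl4.Pt 0, cltl3.Pt 0, cltl2.Pt 0, cltl1.Pt 0, cltl0.Pt 0]) 0 && kChk cle_P clx_P cltn0.Kn 1 B1 [cltl5.Pt 0, cltl4.Pt 0, cltl3.Pt 0, cltl2.Pt 0, cltl1.Pt 0, cltl0.Pt 0] && H16.allL (ltAll 1) cltn0.pre && planOK clth_P clx_P 1 (cltl6.Pt 0) cltn0.plan [cltl6]) = true := by decide +kernel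
theorem cntn3_1_0 : allZ (cntn3.ent Tm cnth_P cnx_P cntn2y346_P cntr3k_P (nat_lit 5) (nat_lit 2) B1 cntl3 [cntl4] (fun _ => nat_lit 1)) (nat_lit 0) (nat_lit 2) = true := by decide +kernel
theorem nm3 : 1 < 56 ∧ allZ (fun j => H16.force j fun j => cjL Tm (wdsP Tm wW) 4 B1 1 [j] (nth [] [[nat_lit 0],
  [nat_lit 1],
  [nat_lit 2],
  [nat_lit 0, nat_lit 3, nat_lit 0]] j)) 0 4 = true := by decide +kernel
theorem cntn7_1_0 : allZ (cntn7.ent Tm cnth_P cnx_P cntn6y26_P cntr7k_P (nat_lit 5) (nat_lit 2) B1 cntl3 [cntl4] (fun _ => nat_lit 1)) (nat_lit 0) (nat_lit 2) = true := by decide +kernel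
theorem cntn9_1_0 : allZ (cntn9.ent Tm cnth_P cnx_P cntn6y346_P cntr9k_P (nat_lit 5) (nat_lit 2) B1 cntl3 [cntl4] (fun _ => nat_lit 1)) (nat_lit 0) (nat_lit 2) = true := by decide +kernel
theorem en7b_0 : allZ (enEnt wzpe_P en7T en7W (nat_lit 4)) (nat_lit 0) (nat_lit 4) = true := by decide +kernel
theorem tl3_e_0 : allZ (dent tl3 (wdsP tP te) (nat_lit 336)) (nat_lit 0) (nat_lit 15) = true := by decide +kernel
theorem cftn0_0 : (Nat.ble cftl7.K 12 && Nat.beq (ltAll 714 [cftl6.Pt 0, cftl5.Pt 0, cftl4.Pt 0, cftl3.Pt 0, cftl2.Pt 0, cftl1.Pt 0, cftl0.Pt 0]) 0 && kChk cfe_P cfx_P cftn0.Kn 1 B1 [cftl6.Pt 0, cftl5.Pt 0, cftl4.Pt 0, cftl3.Pt 0, cftl2.Pt 0, cftl1.Pt 0, cftl0.Pt 0] && H16.allL (ltAll 1) cftn0.pre && planOK cfth_P cfx_P 1 (cftl7.Pt 0) cftn0.plan [cftl7]) = true := by decide +kernel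
theorem ck_f0 : (Nat.ble ckc0.K 1 && Nat.ble (topK []) ckc0.K && Nat.beq (ckc0.Pt 0) (cktl0.Pt 0) && Nat.beq (ltAll 714 []) 0 && kChk cke_P ckx_P ckc0.K 2 B1 []) = true := by decide +kernel
theorem cftn1_0 : (Nat.ble cftl6.K 12 && Nat.beq (ltAll 714 [cftl5.Pt 0, cftl4.Pt 0, cftl3.Pt 0, cftl2.Pt 0, cftl1.Pt 0, cftl0.Pt 0]) 0 && kChk cfe_P cfx_P cftn1.Kn 1 B1 [cftl5.Pt 0, cftl4.Pt 0, cftl3.Pt 0, cftl2.Pt 0, cftl1.Pt 0, cftl0.Pt 0] && H16.allL (ltAll 1) cftn1.pre && planOK cfth_P cfx_P 1 (cftl6.Pt 0) cftn1.plan [cftl6, cftl7]) = true := by decide +kernel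
theorem cvtl1_e_0 : allZ (dent cvtl1 cvth_P (nat_lit 714)) (nat_lit 0) (nat_lit 15) = true := by decide +kernel
theorem bwtl1_e_0 : allZ (dent bwtl1 bwth_P (nat_lit 714)) (nat_lit 0) (nat_lit 15) = true := by decide +kernel
theorem cftn3_0 : (Nat.ble cftl5.K 12 && Nat.beq (ltAll 714 [cftl4.Pt 0, cftl3.Pt 0, cftl2.Pt 0, cftl1.Pt 0, cftl0.Pt 0]) 0 && kChk cfe_P cfx_P cftn3.Kn 1 B1 [cftl4.Pt 0, cftl3.Pt 0, cftl2.Pt 0, cftl1.Pt 0, cftl0.Pt 0] && H16.allL (ltAll 1) cftn3.pre && planOK cfth_P cfx_P 1 (cftl5.Pt 0) cftn3.plan [cftl5, cftl6, cftl7]) = true := by decide +kernel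
theorem wzptl1_e_0 : allZ (dent wzptl1 wzpth_P (nat_lit 714)) (nat_lit 0) (nat_lit 15) = true := by decide +kernel
theorem cttl1_e_0 : allZ (dent cttl1 ctth_P (nat_lit 714)) (nat_lit 0) (nat_lit 15) = true := by decide +kernel
theorem cftl1_e_0 : allZ (dent cftl1 cfth_P (nat_lit 714)) (nat_lit 0) (nat_lit 15) = true := by decide +kernel
theorem nm2 : 5 < 6 ∧ allZ (fun j => H16.force j fun j => cjL Tm Tm 5 B1 5 [j] (nth [] [[nat_lit 1, nat_lit 3, nat_lit 0, nat_lit 3, nat_lit 1],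
  [nat_lit 2, nat_lit 3, nat_lit 1, nat_lit 2, nat_lit 1, nat_lit 3, nat_lit 2, nat_lit 4, nat_lit 3],
  [nat_lit 1, nat_lit 0, nat_lit 3, nat_lit 1, nat_lit 3, nat_lit 2, nat_lit 1, nat_lit 4, nat_lit 3],
  [nat_lit 0, nat_lit 2, nat_lit 1, nat_lit 3, nat_lit 4, nat_lit 3, nat_lit 2, nat_lit 3, nat_lit 0, nat_lit 3],
  [nat_lit 0, nat_lit 3, nat_lit 4, nat_lit 3]] j)) 0 5 = true := by decide +kernel
theorem me67 : 2 < 56 ∧ ltAll 10 [nat_lit 1, nat_lit 6, nat_lit 4, nat_lit 7] = 0 ∧ sumL (fun β => Nat.xor ((wdsP Tm wW) 2 β) (apW t_P [nat_lit 1, nat_lit 6, nat_lit 4, nat_lit 7] β)) B1 = 0 := by decide +kernel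
theorem cm88 : 2 < 56 ∧ allZ (fun j => H16.force j (cmEnt pf_P (wdsP Tm wW) B1 2)) 0 1 = true := by decide +kernel
theorem cptl1_e_0 : allZ (dent cptl1 cpth_P (nat_lit 714)) (nat_lit 0) (nat_lit 15) = true := by decide +kernel
theorem cfc0_e_0 : allZ (dent cfc0 cfe_P (nat_lit 714)) (nat_lit 0) (nat_lit 11) = true := by decide +kernel
theorem cntl1_e_0 : allZ (dent cntl1 cnth_P (nat_lit 714)) (nat_lit 0) (nat_lit 15) = true := by decide +kernel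
theorem cptn0_0 : (Nat.ble cptl6.K 10 && Nat.beq (ltAll 714 [cptl5.Pt 0, cptl4.Pt 0, cptl3.Pt 0, cptl2.Pt 0, cptl1.Pt 0, cptl0.Pt 0]) 0 && kChk cpe_P cpx_P cptn0.Kn 1 B1 [cptl5.Pt 0, cptl4.Pt 0, cptl3.Pt 0, cptl2.Pt 0, cptl1.Pt 0, cptl0.Pt 0] && H16.allL (ltAll 1) cptn0.pre && planOK cpth_P cpx_P 1 (cptl6.Pt 0) cptn0.plan [cptl6]) = true := by decide +kernel
theorem cftn1_1_0 : allZ (cftn1.ent Tm cfth_P cfx_P cfx_P cfe_P (nat_lit 6) (nat_lit 1) B1 cftl6 [cftl7] (fun w => Nat.xor w (cftl6.Pt (nat_lit 0)))) (nat_lit 0) (nat_lit 2) = true := by decide +kernel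
theorem pf_r_a : allZ2 (resEnt pf_P pfP pfE pfI (nat_lit 714) (nat_lit 12)) (nat_lit 1) (nat_lit 12) = true := by decide +kernel
theorem cs87_a : allZ2 (cmEnt pf_P pf_P B1) (nat_lit 1) (nat_lit 1) = true := by decide +kernel
theorem cv_f6 : (Nat.ble cvtl6.K 16 && Nat.blt (nat_lit 61) 714 && fixLetters cvth_P cvtl6.K (nat_lit 61) && Nat.beq (ltAll 2 [nat_lit 0, nat_lit 0]) 0 && Nat.beq (apW cvx_P [nat_lit 0, nat_lit 0] (nat_lit 61)) (cvtl6.Pt 0)) = true := by decide +kernel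
theorem cv_f2 : (Nat.ble cvtl2.K 16 && Nat.blt (nat_lit 51) 714 && fixLetters cvth_P cvtl2.K (nat_lit 51) && Nat.beq (ltAll 2 [nat_lit 0, nat_lit 0]) 0 && Nat.beq (apW cvx_P [nat_lit 0, nat_lit 0] (nat_lit 51)) (cvtl2.Pt 0)) = true := by decide +kernel
theorem cv_f5 : (Nat.ble cvtl5.K 16 && Nat.blt (nat_lit 61) 714 && fixLetters cvth_P cvtl5.K (nat_lit 61) && Nat.beq (ltAll 2 [nat_lit 0]) 0 && Nat.beq (apW cvx_P [nat_lit 0] (nat_lit 61)) (cvtl5.Pt 0)) = true := by decide +kernel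
theorem cv_f1 : (Nat.ble cvtl1.K 16 && Nat.blt (nat_lit 51) 714 && fixLetters cvth_P cvtl1.K (nat_lit 51) && Nat.beq (ltAll 2 [nat_lit 0]) 0 && Nat.beq (apW cvx_P [nat_lit 0] (nat_lit 51)) (cvtl1.Pt 0)) = true := by decide +kernel
theorem me66 : 1 < 56 ∧ ltAll 10 [nat_lit 4, nat_lit 7, nat_lit 5] = 0 ∧ sumL (fun β => Nat.xor ((wdsP Tm wW) 1 β) (apW t_P [nat_lit 4, nat_lit 7, nat_lit 5] β)) B1 = 0 := by decide +kernel
theorem bzp_f3 : (Nat.ble bzptl3.K 16 && Nat.blt (nat_lit 51) 714 && fixLetters bzpth_P bzptl3.K (nat_lit 51) && Nat.beq (ltAll 4 [nat_lit 3]) 0 && Nat.beq (apW bzpx_P [nat_lit 3] (nat_lit 51)) (bzptl3.Pt 0)) = true := by decide +kernel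
theorem bzp_f1 : (Nat.ble bzptl1.K 16 && Nat.blt (nat_lit 51) 714 && fixLetters bzpth_P bzptl1.K (nat_lit 51) && Nat.beq (ltAll 4 [nat_lit 0]) 0 && Nat.beq (apW bzpx_P [nat_lit 0] (nat_lit 51)) (bzptl1.Pt 0)) = true := by decide +kernel
theorem bzp_f4 : (Nat.ble bzptl4.K 16 && Nat.blt (nat_lit 51) 714 && fixLetters bzpth_P bzptl4.K (nat_lit 51) && Nat.beq (ltAll 4 [nat_lit 1]) 0 && Nat.beq (apW bzpx_P [nat_lit 1] (nat_lit 51)) (bzptl4.Pt 0)) = true := by decide +kernel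
theorem bzp_f2 : (Nat.ble bzptl2.K 16 && Nat.blt (nat_lit 51) 714 && fixLetters bzpth_P bzptl2.K (nat_lit 51) && Nat.beq (ltAll 4 [nat_lit 2]) 0 && Nat.beq (apW bzpx_P [nat_lit 2] (nat_lit 51)) (bzptl2.Pt 0)) = true := by decide +kernel
theorem cl48_0 : allZ (clEnt cte_P (wdsP Tm wW) 55 56 B1 cl48L en47W) (nat_lit 0) (nat_lit 2) = true := by decide +kernel
theorem cl84_0 : allZ (clEnt cqe_P (wdsP Tm wW) 55 56 B1 cl84L en83W) (nat_lit 0) (nat_lit 2) = true := by decide +kernel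
theorem cv_f4 : (Nat.ble cvtl4.K 16 && Nat.blt (nat_lit 61) 714 && fixLetters cvth_P cvtl4.K (nat_lit 61) && Nat.beq (ltAll 2 [nat_lit 1]) 0 && Nat.beq (apW cvx_P [nat_lit 1] (nat_lit 61)) (cvtl4.Pt 0)) = true := by decide +kernel
theorem cm6 : 1 < 56 ∧ allZ (fun j => H16.force j (cmEnt pf_P (wdsP Tm wW) B1 1)) 0 1 = true := by decide +kernel
theorem cvt_f6 : (Nat.ble cvtl6.K 16 && Nat.ble (topK []) cvtl6.K && fixLetters cvth_P (topK []) (cvtl6.Pt 0)) = true := by decide +kernel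
theorem cvt_f5 : (Nat.ble cvtl5.K 16 && Nat.ble (topK [cvtl6]) cvtl5.K && fixLetters cvth_P (topK [cvtl6]) (cvtl5.Pt 0)) = true := by decide +kernel
theorem cvt_f4 : (Nat.ble cvtl4.K 16 && Nat.ble (topK [cvtl5, cvtl6]) cvtl4.K && fixLetters cvth_P (topK [cvtl5, cvtl6]) (cvtl4.Pt 0)) = true := by decide +kernel
theorem cvt_f3 : (Nat.ble cvtl3.K 16 && Nat.ble (topK [cvtl4, cvtl5, cvtl6]) cvtl3.K && fixLetters cvth_P (topK [cvtl4, cvtl5, cvtl6]) (cvtl3.Pt 0)) = true := by decide +kernel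
theorem cvt_f2 : (Nat.ble cvtl2.K 16 && Nat.ble (topK [cvtl3, cvtl4, cvtl5, cvtl6]) cvtl2.K && fixLetters cvth_P (topK [cvtl3, cvtl4, cvtl5, cvtl6]) (cvtl2.Pt 0)) = true := by decide +kernel
theorem cvt_f1 : (Nat.ble cvtl1.K 16 && Nat.ble (topK [cvtl2, cvtl3, cvtl4, cvtl5, cvtl6]) cvtl1.K && fixLetters cvth_P (topK [cvtl2, cvtl3, cvtl4, cvtl5, cvtl6]) (cvtl1.Pt 0)) = true := by decide +kernel
theorem cvt_f0 : (Nat.ble cvtl0.K 16 && Nat.ble (topK [cvtl1, cvtl2, cvtl3, cvtl4, cvtl5, cvtl6]) cvtl0.K && fixLetters cvth_P (topK [cvtl1, cvtl2, cvtl3, cvtl4, cvtl5, cvtl6]) (cvtl0.Pt 0)) = true := by decide +kernel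
theorem bzpt_f5 : (Nat.ble bzptl5.K 16 && Nat.ble (topK []) bzptl5.K && fixLetters bzpth_P (topK []) (bzptl5.Pt 0)) = true := by decide +kernel
theorem bzpt_f4 : (Nat.ble bzptl4.K 16 && Nat.ble (topK [bzptl5]) bzptl4.K && fixLetters bzpth_P (topK [bzptl5]) (bzptl4.Pt 0)) = true := by decide +kernel
theorem bzpt_f3 : (Nat.ble bzptl3.K 16 && Nat.ble (topK [bzptl4, bzptl5]) bzptl3.K && fixLetters bzpth_P (topK [bzptl4, bzptl5]) (bzptl3.Pt 0)) = true := by decide +kernel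
theorem bzpt_f2 : (Nat.ble bzptl2.K 16 && Nat.ble (topK [bzptl3, bzptl4, bzptl5]) bzptl2.K && fixLetters bzpth_P (topK [bzptl3, bzptl4, bzptl5]) (bzptl2.Pt 0)) = true := by decide +kernel
theorem bzpt_f1 : (Nat.ble bzptl1.K 16 && Nat.ble (topK [bzptl2, bzptl3, bzptl4, bzptl5]) bzptl1.K && fixLetters bzpth_P (topK [bzptl2, bzptl3, bzptl4, bzptl5]) (bzptl1.Pt 0)) = true := by decide +kernel
theorem bzpt_f0 : (Nat.ble bzptl0.K 16 && Nat.ble (topK [bzptl1, bzptl2, bzptl3, bzptl4, bzptl5]) bzptl0.K && fixLetters bzpth_P (topK [bzptl1, bzptl2, bzptl3, bzptl4, bzptl5]) (bzptl0.Pt 0)) = true := by decide +kernel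
theorem wb2_f4 : (Nat.ble wb2tl4.K 14 && Nat.blt (nat_lit 0) 714 && fixLetters wb2th_P wb2tl4.K (nat_lit 0) && Nat.beq (ltAll 4 [nat_lit 1, nat_lit 3]) 0 && Nat.beq (apW wb2x_P [nat_lit 1, nat_lit 3] (nat_lit 0)) (wb2tl4.Pt 0)) = true := by decide +kernel
theorem bw_f4 : (Nat.ble bwtl4.K 14 && Nat.blt (nat_lit 32) 714 && fixLetters bwth_P bwtl4.K (nat_lit 32) && Nat.beq (ltAll 4 [nat_lit 0, nat_lit 3]) 0 && Nat.beq (apW bwx_P [nat_lit 0, nat_lit 3] (nat_lit 32)) (bwtl4.Pt 0)) = true := by decide +kernel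
theorem en47b_0 : allZ (enEnt cte_P en47T en47W (nat_lit 4)) (nat_lit 0) (nat_lit 2) = true := by decide +kernel
theorem en83b_0 : allZ (enEnt cqe_P en83T en83W (nat_lit 4)) (nat_lit 0) (nat_lit 2) = true := by decide +kernel
theorem cftn3_1_0 : allZ (cftn3.ent Tm cfth_P cfx_P cfx_P cfe_P (nat_lit 6) (nat_lit 1) B1 cftl5 [cftl6, cftl7] (fun w => Nat.xor w (cftl5.Pt (nat_lit 0)))) (nat_lit 0) (nat_lit 2) = true := by decide +kernel
theorem wb2_f1 : (Nat.ble wb2tl1.K 14 && Nat.blt (nat_lit 0) 714 && fixLetters wb2th_P wb2tl1.K (nat_lit 0) && Nat.beq (ltAll 4 [nat_lit 3]) 0 && Nat.beq (apW wb2x_P [nat_lit 3] (nat_lit 0)) (wb2tl1.Pt 0)) = true := by decide +kernel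
theorem wb2_f3 : (Nat.ble wb2tl3.K 14 && Nat.blt (nat_lit 0) 714 && fixLetters wb2th_P wb2tl3.K (nat_lit 0) && Nat.beq (ltAll 4 [nat_lit 2]) 0 && Nat.beq (apW wb2x_P [nat_lit 2] (nat_lit 0)) (wb2tl3.Pt 0)) = true := by decide +kernel
theorem bw_f2 : (Nat.ble bwtl2.K 14 && Nat.blt (nat_lit 32) 714 && fixLetters bwth_P bwtl2.K (nat_lit 32) && Nat.beq (ltAll 4 [nat_lit 3]) 0 && Nat.beq (apW bwx_P [nat_lit 3] (nat_lit 32)) (bwtl2.Pt 0)) = true := by decide +kernel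
theorem wb1tl1_e_0 : allZ (dent wb1tl1 wb1th_P (nat_lit 714)) (nat_lit 0) (nat_lit 7) = true := by decide +kernel
theorem bzptl1_e_0 : allZ (dent bzptl1 bzpth_P (nat_lit 714)) (nat_lit 0) (nat_lit 7) = true := by decide +kernel
theorem bw_f3 : (Nat.ble bwtl3.K 14 && Nat.blt (nat_lit 32) 714 && fixLetters bwth_P bwtl3.K (nat_lit 32) && Nat.beq (ltAll 4 [nat_lit 2]) 0 && Nat.beq (apW bwx_P [nat_lit 2] (nat_lit 32)) (bwtl3.Pt 0)) = true := by decide +kernel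
theorem me86 : 0 < 56 ∧ ltAll 6 [nat_lit 0, nat_lit 0] = 0 ∧ sumL (fun β => Nat.xor ((wdsP Tm wW) 0 β) (apW rq_P [nat_lit 0, nat_lit 0] β)) B1 = 0 := by decide +kernel
theorem wb2_f2 : (Nat.ble wb2tl2.K 14 && Nat.blt (nat_lit 0) 714 && fixLetters wb2th_P wb2tl2.K (nat_lit 0) && Nat.beq (ltAll 4 [nat_lit 1]) 0 && Nat.beq (apW wb2x_P [nat_lit 1] (nat_lit 0)) (wb2tl2.Pt 0)) = true := by decide +kernel
theorem en47a_a : allZ2 (tupEnt cte_P en47T en47N (nat_lit 714) (nat_lit 2) (nat_lit 4)) (nat_lit 1) (nat_lit 2) = true := by decide +kernel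
theorem en83a_a : allZ2 (tupEnt cqe_P en83T en83N (nat_lit 714) (nat_lit 2) (nat_lit 4)) (nat_lit 1) (nat_lit 2) = true := by decide +kernel
theorem bw_f1 : (Nat.ble bwtl1.K 14 && Nat.blt (nat_lit 32) 714 && fixLetters bwth_P bwtl1.K (nat_lit 32) && Nat.beq (ltAll 4 [nat_lit 0]) 0 && Nat.beq (apW bwx_P [nat_lit 0] (nat_lit 32)) (bwtl1.Pt 0)) = true := by decide +kernel
theorem zltl3_e_0 : allZ (dent zltl3 zlth_P (nat_lit 714)) (nat_lit 0) (nat_lit 7) = true := by decide +kernel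
theorem wwtl2_e_0 : allZ (dent wwtl2 wwth_P (nat_lit 714)) (nat_lit 0) (nat_lit 7) = true := by decide +kernel
theorem clc0_e_0 : allZ (dent clc0 cle_P (nat_lit 714)) (nat_lit 0) (nat_lit 7) = true := by decide +kernel
theorem cqtl2_e_0 : allZ (dent cqtl2 cqth_P (nat_lit 714)) (nat_lit 0) (nat_lit 7) = true := by decide +kernel
theorem zl_f2 : (Nat.ble zltl2.K 13 && Nat.blt (nat_lit 8) 714 && fixLetters zlth_P zltl2.K (nat_lit 8) && Nat.beq (ltAll 9 [nat_lit 2]) 0 && Nat.beq (apW zlx_P [nat_lit 2] (nat_lit 8)) (zltl2.Pt 0)) = true := by decide +kernel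
theorem wb2t_f5 : (Nat.ble wb2tl5.K 14 && Nat.ble (topK []) wb2tl5.K && fixLetters wb2th_P (topK []) (wb2tl5.Pt 0)) = true := by decide +kernel
theorem wb2t_f4 : (Nat.ble wb2tl4.K 14 && Nat.ble (topK [wb2tl5]) wb2tl4.K && fixLetters wb2th_P (topK [wb2tl5]) (wb2tl4.Pt 0)) = true := by decide +kernel
theorem wb2t_f3 : (Nat.ble wb2tl3.K 14 && Nat.ble (topK [wb2tl4, wb2tl5]) wb2tl3.K && fixLetters wb2th_P (topK [wb2tl4, wb2tl5]) (wb2tl3.Pt 0)) = true := by decide +kernel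
theorem wb2t_f2 : (Nat.ble wb2tl2.K 14 && Nat.ble (topK [wb2tl3, wb2tl4, wb2tl5]) wb2tl2.K && fixLetters wb2th_P (topK [wb2tl3, wb2tl4, wb2tl5]) (wb2tl2.Pt 0)) = true := by decide +kernel
theorem wb2t_f1 : (Nat.ble wb2tl1.K 14 && Nat.ble (topK [wb2tl2, wb2tl3, wb2tl4, wb2tl5]) wb2tl1.K && fixLetters wb2th_P (topK [wb2tl2, wb2tl3, wb2tl4, wb2tl5]) (wb2tl1.Pt 0)) = true := by decide +kernel
theorem wb2t_f0 : (Nat.ble wb2tl0.K 14 && Nat.ble (topK [wb2tl1, wb2tl2, wb2tl3, wb2tl4, wb2tl5]) wb2tl0.K && fixLetters wb2th_P (topK [wb2tl1, wb2tl2, wb2tl3, wb2tl4, wb2tl5]) (wb2tl0.Pt 0)) = true := by decide +kernel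
theorem wwtl1_e_0 : allZ (dent wwtl1 wwth_P (nat_lit 714)) (nat_lit 0) (nat_lit 7) = true := by decide +kernel
theorem wb1c0_e_0 : allZ (dent wb1c0 wb1e_P (nat_lit 714)) (nat_lit 0) (nat_lit 7) = true := by decide +kernel
theorem me62 : 3 < 56 ∧ ltAll 10 [nat_lit 1] = 0 ∧ sumL (fun β => Nat.xor ((wdsP Tm wW) 3 β) (apW t_P [nat_lit 1] β)) B1 = 0 := by decide +kernel
theorem bwt_f5 : (Nat.ble bwtl5.K 14 && Nat.ble (topK []) bwtl5.K && fixLetters bwth_P (topK []) (bwtl5.Pt 0)) = true := by decide +kernel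
theorem bwt_f4 : (Nat.ble bwtl4.K 14 && Nat.ble (topK [bwtl5]) bwtl4.K && fixLetters bwth_P (topK [bwtl5]) (bwtl4.Pt 0)) = true := by decide +kernel
theorem bwt_f3 : (Nat.ble bwtl3.K 14 && Nat.ble (topK [bwtl4, bwtl5]) bwtl3.K && fixLetters bwth_P (topK [bwtl4, bwtl5]) (bwtl3.Pt 0)) = true := by decide +kernel
theorem bwt_f2 : (Nat.ble bwtl2.K 14 && Nat.ble (topK [bwtl3, bwtl4, bwtl5]) bwtl2.K && fixLetters bwth_P (topK [bwtl3, bwtl4, bwtl5]) (bwtl2.Pt 0)) = true := by decide +kernel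
theorem bwt_f1 : (Nat.ble bwtl1.K 14 && Nat.ble (topK [bwtl2, bwtl3, bwtl4, bwtl5]) bwtl1.K && fixLetters bwth_P (topK [bwtl2, bwtl3, bwtl4, bwtl5]) (bwtl1.Pt 0)) = true := by decide +kernel
theorem bwt_f0 : (Nat.ble bwtl0.K 14 && Nat.ble (topK [bwtl1, bwtl2, bwtl3, bwtl4, bwtl5]) bwtl0.K && fixLetters bwth_P (topK [bwtl1, bwtl2, bwtl3, bwtl4, bwtl5]) (bwtl0.Pt 0)) = true := by decide +kernel
theorem zl_f3 : (Nat.ble zltl3.K 13 && Nat.blt (nat_lit 8) 714 && fixLetters zlth_P zltl3.K (nat_lit 8) && Nat.beq (ltAll 9 [nat_lit 5]) 0 && Nat.beq (apW zlx_P [nat_lit 5] (nat_lit 8)) (zltl3.Pt 0)) = true := by decide +kernel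
theorem wb2tl1_e_0 : allZ (dent wb2tl1 wb2th_P (nat_lit 714)) (nat_lit 0) (nat_lit 7) = true := by decide +kernel
theorem zl_f1 : (Nat.ble zltl1.K 13 && Nat.blt (nat_lit 8) 714 && fixLetters zlth_P zltl1.K (nat_lit 8) && Nat.beq (ltAll 9 [nat_lit 6]) 0 && Nat.beq (apW zlx_P [nat_lit 6] (nat_lit 8)) (zltl1.Pt 0)) = true := by decide +kernel
theorem cntl2_e_0 : allZ (dent cntl2 cnth_P (nat_lit 714)) (nat_lit 0) (nat_lit 7) = true := by decide +kernel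
theorem n3_f4 : (Nat.ble n3tl4.K 13 && Nat.blt (nat_lit 20) 714 && fixLetters n3th_P n3tl4.K (nat_lit 20) && Nat.beq (ltAll 6 [nat_lit 0]) 0 && Nat.beq (apW n3x_P [nat_lit 0] (nat_lit 20)) (n3tl4.Pt 0)) = true := by decide +kernel
theorem n3_f1 : (Nat.ble n3tl1.K 13 && Nat.blt (nat_lit 3) 714 && fixLetters n3th_P n3tl1.K (nat_lit 3) && Nat.beq (ltAll 6 [nat_lit 0]) 0 && Nat.beq (apW n3x_P [nat_lit 0] (nat_lit 3)) (n3tl1.Pt 0)) = true := by decide +kernel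
theorem n3_f2 : (Nat.ble n3tl2.K 13 && Nat.blt (nat_lit 3) 714 && fixLetters n3th_P n3tl2.K (nat_lit 3) && Nat.beq (ltAll 6 [nat_lit 1]) 0 && Nat.beq (apW n3x_P [nat_lit 1] (nat_lit 3)) (n3tl2.Pt 0)) = true := by decide +kernel
theorem me82 : 2 < 56 ∧ ltAll 4 [nat_lit 2] = 0 ∧ sumL (fun β => Nat.xor ((wdsP Tm wW) 2 β) (apW rv1_P [nat_lit 2] β)) B1 = 0 := by decide +kernel
theorem wb2tl2_e_0 : allZ (dent wb2tl2 wb2th_P (nat_lit 714)) (nat_lit 0) (nat_lit 7) = true := by decide +kernel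
theorem wb1_f2 : (Nat.ble wb1tl2.K 12 && Nat.blt (nat_lit 90) 714 && fixLetters wb1th_P wb1tl2.K (nat_lit 90) && Nat.beq (ltAll 4 [nat_lit 2]) 0 && Nat.beq (apW wb1x_P [nat_lit 2] (nat_lit 90)) (wb1tl2.Pt 0)) = true := by decide +kernel
theorem zlt_f3 : (Nat.ble zltl3.K 13 && Nat.ble (topK []) zltl3.K && fixLetters zlth_P (topK []) (zltl3.Pt 0)) = true := by decide +kernel
theorem zlt_f2 : (Nat.ble zltl2.K 13 && Nat.ble (topK [zltl3]) zltl2.K && fixLetters zlth_P (topK [zltl3]) (zltl2.Pt 0)) = true := by decide +kernel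
theorem zlt_f1 : (Nat.ble zltl1.K 13 && Nat.ble (topK [zltl2, zltl3]) zltl1.K && fixLetters zlth_P (topK [zltl2, zltl3]) (zltl1.Pt 0)) = true := by decide +kernel
theorem zlt_f0 : (Nat.ble zltl0.K 13 && Nat.ble (topK [zltl1, zltl2, zltl3]) zltl0.K && fixLetters zlth_P (topK [zltl1, zltl2, zltl3]) (zltl0.Pt 0)) = true := by decide +kernel
theorem wb1_f3 : (Nat.ble wb1tl3.K 12 && Nat.blt (nat_lit 90) 714 && fixLetters wb1th_P wb1tl3.K (nat_lit 90) && Nat.beq (ltAll 4 [nat_lit 0]) 0 && Nat.beq (apW wb1x_P [nat_lit 0] (nat_lit 90)) (wb1tl3.Pt 0)) = true := by decide +kernel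
theorem cl_f3 : (Nat.ble cltl3.K 12 && Nat.blt (nat_lit 54) 714 && fixLetters clth_P cltl3.K (nat_lit 54) && Nat.beq (ltAll 1 [nat_lit 0]) 0 && Nat.beq (apW clx_P [nat_lit 0] (nat_lit 54)) (cltl3.Pt 0)) = true := by decide +kernel
theorem wb1_f1 : (Nat.ble wb1tl1.K 12 && Nat.blt (nat_lit 90) 714 && fixLetters wb1th_P wb1tl1.K (nat_lit 90) && Nat.beq (ltAll 4 [nat_lit 1]) 0 && Nat.beq (apW wb1x_P [nat_lit 1] (nat_lit 90)) (wb1tl1.Pt 0)) = true := by decide +kernel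
theorem n3t_f4 : (Nat.ble n3tl4.K 13 && Nat.ble (topK []) n3tl4.K && fixLetters n3th_P (topK []) (n3tl4.Pt 0)) = true := by decide +kernel
theorem n3t_f3 : (Nat.ble n3tl3.K 13 && Nat.ble (topK [n3tl4]) n3tl3.K && fixLetters n3th_P (topK [n3tl4]) (n3tl3.Pt 0)) = true := by decide +kernel
theorem n3t_f2 : (Nat.ble n3tl2.K 13 && Nat.ble (topK [n3tl3, n3tl4]) n3tl2.K && fixLetters n3th_P (topK [n3tl3, n3tl4]) (n3tl2.Pt 0)) = true := by decide +kernel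
theorem n3t_f1 : (Nat.ble n3tl1.K 13 && Nat.ble (topK [n3tl2, n3tl3, n3tl4]) n3tl1.K && fixLetters n3th_P (topK [n3tl2, n3tl3, n3tl4]) (n3tl1.Pt 0)) = true := by decide +kernel
theorem n3t_f0 : (Nat.ble n3tl0.K 13 && Nat.ble (topK [n3tl1, n3tl2, n3tl3, n3tl4]) n3tl0.K && fixLetters n3th_P (topK [n3tl1, n3tl2, n3tl3, n3tl4]) (n3tl0.Pt 0)) = true := by decide +kernel
theorem ct_f2 : (Nat.ble cttl2.K 12 && Nat.blt (nat_lit 11) 714 && fixLetters ctth_P cttl2.K (nat_lit 11) && Nat.beq (ltAll 4 [nat_lit 3]) 0 && Nat.beq (apW ctx_P [nat_lit 3] (nat_lit 11)) (cttl2.Pt 0)) = true := by decide +kernel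
theorem me78 : 1 < 56 ∧ ltAll 4 [nat_lit 0, nat_lit 3] = 0 ∧ sumL (fun β => Nat.xor ((wdsP Tm wW) 1 β) (apW rv0_P [nat_lit 0, nat_lit 3] β)) B1 = 0 := by decide +kernel
theorem ct_f1 : (Nat.ble cttl1.K 12 && Nat.blt (nat_lit 11) 714 && fixLetters ctth_P cttl1.K (nat_lit 11) && Nat.beq (ltAll 4 [nat_lit 1]) 0 && Nat.beq (apW ctx_P [nat_lit 1] (nat_lit 11)) (cttl1.Pt 0)) = true := by decide +kernel
theorem wb1t_f3 : (Nat.ble wb1tl3.K 12 && Nat.ble (topK []) wb1tl3.K && fixLetters wb1th_P (topK []) (wb1tl3.Pt 0)) = true := by decide +kernel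
theorem wb1t_f2 : (Nat.ble wb1tl2.K 12 && Nat.ble (topK [wb1tl3]) wb1tl2.K && fixLetters wb1th_P (topK [wb1tl3]) (wb1tl2.Pt 0)) = true := by decide +kernel
theorem wb1t_f1 : (Nat.ble wb1tl1.K 12 && Nat.ble (topK [wb1tl2, wb1tl3]) wb1tl1.K && fixLetters wb1th_P (topK [wb1tl2, wb1tl3]) (wb1tl1.Pt 0)) = true := by decide +kernel
theorem wb1t_f0 : (Nat.ble wb1tl0.K 12 && Nat.ble (topK [wb1tl1, wb1tl2, wb1tl3]) wb1tl0.K && fixLetters wb1th_P (topK [wb1tl1, wb1tl2, wb1tl3]) (wb1tl0.Pt 0)) = true := by decide +kernel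
theorem clt_f6 : (Nat.ble cltl6.K 12 && Nat.ble (topK []) cltl6.K && fixLetters clth_P (topK []) (cltl6.Pt 0)) = true := by decide +kernel
theorem clt_f5 : (Nat.ble cltl5.K 12 && Nat.ble (topK [cltl6]) cltl5.K && fixLetters clth_P (topK [cltl6]) (cltl5.Pt 0)) = true := by decide +kernel
theorem clt_f4 : (Nat.ble cltl4.K 12 && Nat.ble (topK [cltl5, cltl6]) cltl4.K && fixLetters clth_P (topK [cltl5, cltl6]) (cltl4.Pt 0)) = true := by decide +kernel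
theorem clt_f3 : (Nat.ble cltl3.K 12 && Nat.ble (topK [cltl4, cltl5, cltl6]) cltl3.K && fixLetters clth_P (topK [cltl4, cltl5, cltl6]) (cltl3.Pt 0)) = true := by decide +kernel
theorem clt_f2 : (Nat.ble cltl2.K 12 && Nat.ble (topK [cltl3, cltl4, cltl5, cltl6]) cltl2.K && fixLetters clth_P (topK [cltl3, cltl4, cltl5, cltl6]) (cltl2.Pt 0)) = true := by decide +kernel
theorem clt_f1 : (Nat.ble cltl1.K 12 && Nat.ble (topK [cltl2, cltl3, cltl4, cltl5, cltl6]) cltl1.K && fixLetters clth_P (topK [cltl2, cltl3, cltl4, cltl5, cltl6]) (cltl1.Pt 0)) = true := by decide +kernel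
theorem clt_f0 : (Nat.ble cltl0.K 12 && Nat.ble (topK [cltl1, cltl2, cltl3, cltl4, cltl5, cltl6]) cltl0.K && fixLetters clth_P (topK [cltl1, cltl2, cltl3, cltl4, cltl5, cltl6]) (cltl0.Pt 0)) = true := by decide +kernel
theorem cf_f4 : (Nat.ble cftl4.K 12 && Nat.blt (nat_lit 32) 714 && fixLetters cfth_P cftl4.K (nat_lit 32) && Nat.beq (ltAll 1 [nat_lit 0]) 0 && Nat.beq (apW cfx_P [nat_lit 0] (nat_lit 32)) (cftl4.Pt 0)) = true := by decide +kernel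
theorem cf_f1 : (Nat.ble cftl1.K 12 && Nat.blt (nat_lit 0) 714 && fixLetters cfth_P cftl1.K (nat_lit 0) && Nat.beq (ltAll 1 [nat_lit 0]) 0 && Nat.beq (apW cfx_P [nat_lit 0] (nat_lit 0)) (cftl1.Pt 0)) = true := by decide +kernel
theorem cft_f7 : (Nat.ble cftl7.K 12 && Nat.ble (topK []) cftl7.K && fixLetters cfth_P (topK []) (cftl7.Pt 0)) = true := by decide +kernel
theorem cft_f6 : (Nat.ble cftl6.K 12 && Nat.ble (topK [cftl7]) cftl6.K && fixLetters cfth_P (topK [cftl7]) (cftl6.Pt 0)) = true := by decide +kernel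
theorem cft_f5 : (Nat.ble cftl5.K 12 && Nat.ble (topK [cftl6, cftl7]) cftl5.K && fixLetters cfth_P (topK [cftl6, cftl7]) (cftl5.Pt 0)) = true := by decide +kernel
theorem cft_f4 : (Nat.ble cftl4.K 12 && Nat.ble (topK [cftl5, cftl6, cftl7]) cftl4.K && fixLetters cfth_P (topK [cftl5, cftl6, cftl7]) (cftl4.Pt 0)) = true := by decide +kernel
theorem cft_f3 : (Nat.ble cftl3.K 12 && Nat.ble (topK [cftl4, cftl5, cftl6, cftl7]) cftl3.K && fixLetters cfth_P (topK [cftl4, cftl5, cftl6, cftl7]) (cftl3.Pt 0)) = true := by decide +kernel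
theorem cft_f2 : (Nat.ble cftl2.K 12 && Nat.ble (topK [cftl3, cftl4, cftl5, cftl6, cftl7]) cftl2.K && fixLetters cfth_P (topK [cftl3, cftl4, cftl5, cftl6, cftl7]) (cftl2.Pt 0)) = true := by decide +kernel
theorem cft_f1 : (Nat.ble cftl1.K 12 && Nat.ble (topK [cftl2, cftl3, cftl4, cftl5, cftl6, cftl7]) cftl1.K && fixLetters cfth_P (topK [cftl2, cftl3, cftl4, cftl5, cftl6, cftl7]) (cftl1.Pt 0)) = true := by decide +kernel
theorem cft_f0 : (Nat.ble cftl0.K 12 && Nat.ble (topK [cftl1, cftl2, cftl3, cftl4, cftl5, cftl6, cftl7]) cftl0.K && fixLetters cfth_P (topK [cftl1, cftl2, cftl3, cftl4, cftl5, cftl6, cftl7]) (cftl0.Pt 0)) = true := by decide +kernel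
theorem wb2tn0_1_0 : allZ (wb2tn0.ent Tm wb2th_P wb2x_P wb2x_P wb2e_P (nat_lit 6) (nat_lit 4) B1 wb2tl5 [] (memO wb2c5)) (nat_lit 0) (nat_lit 4) = true := by decide +kernel
theorem wzp_f3 : (Nat.ble wzptl3.K 11 && Nat.blt (nat_lit 16) 714 && fixLetters wzpth_P wzptl3.K (nat_lit 16) && Nat.beq (ltAll 3 [nat_lit 1, nat_lit 1]) 0 && Nat.beq (apW wzpx_P [nat_lit 1, nat_lit 1] (nat_lit 16)) (wzptl3.Pt 0)) = true := by decide +kernel
theorem cq_f3 : (Nat.ble cqtl3.K 11 && Nat.blt (nat_lit 11) 714 && fixLetters cqth_P cqtl3.K (nat_lit 11) && Nat.beq (ltAll 6 [nat_lit 4]) 0 && Nat.beq (apW rq_P [nat_lit 4] (nat_lit 11)) (cqtl3.Pt 0)) = true := by decide +kernel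
theorem bwtn0_1_0 : allZ (bwtn0.ent Tm bwth_P bwx_P bwx_P bwe_P (nat_lit 6) (nat_lit 4) B1 bwtl5 [] (memO bwc5)) (nat_lit 0) (nat_lit 4) = true := by decide +kernel
theorem cq_f2 : (Nat.ble cqtl2.K 11 && Nat.blt (nat_lit 11) 714 && fixLetters cqth_P cqtl2.K (nat_lit 11) && Nat.beq (ltAll 6 [nat_lit 1]) 0 && Nat.beq (apW rq_P [nat_lit 1] (nat_lit 11)) (cqtl2.Pt 0)) = true := by decide +kernel
theorem ww_f2 : (Nat.ble wwtl2.K 11 && Nat.blt (nat_lit 58) 714 && fixLetters wwth_P wwtl2.K (nat_lit 58) && Nat.beq (ltAll 3 [nat_lit 2]) 0 && Nat.beq (apW wwx_P [nat_lit 2] (nat_lit 58)) (wwtl2.Pt 0)) = true := by decide +kernel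
theorem ww_f1 : (Nat.ble wwtl1.K 11 && Nat.blt (nat_lit 58) 714 && fixLetters wwth_P wwtl1.K (nat_lit 58) && Nat.beq (ltAll 3 [nat_lit 0]) 0 && Nat.beq (apW wwx_P [nat_lit 0] (nat_lit 58)) (wwtl1.Pt 0)) = true := by decide +kernel
theorem cq_f1 : (Nat.ble cqtl1.K 11 && Nat.blt (nat_lit 11) 714 && fixLetters cqth_P cqtl1.K (nat_lit 11) && Nat.beq (ltAll 6 [nat_lit 0]) 0 && Nat.beq (apW rq_P [nat_lit 0] (nat_lit 11)) (cqtl1.Pt 0)) = true := by decide +kernel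
theorem ctt_f2 : (Nat.ble cttl2.K 12 && Nat.ble (topK []) cttl2.K && fixLetters ctth_P (topK []) (cttl2.Pt 0)) = true := by decide +kernel
theorem ctt_f1 : (Nat.ble cttl1.K 12 && Nat.ble (topK [cttl2]) cttl1.K && fixLetters ctth_P (topK [cttl2]) (cttl1.Pt 0)) = true := by decide +kernel
theorem ctt_f0 : (Nat.ble cttl0.K 12 && Nat.ble (topK [cttl1, cttl2]) cttl0.K && fixLetters ctth_P (topK [cttl1, cttl2]) (cttl0.Pt 0)) = true := by decide +kernel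
theorem cp_f5 : (Nat.ble cptl5.K 10 && Nat.blt (nat_lit 20) 714 && fixLetters cpth_P cptl5.K (nat_lit 20) && Nat.beq (ltAll 1 [nat_lit 0, nat_lit 0]) 0 && Nat.beq (apW cpx_P [nat_lit 0, nat_lit 0] (nat_lit 20)) (cptl5.Pt 0)) = true := by decide +kernel
theorem cvc0_e_0 : allZ (dent cvc0 cve_P (nat_lit 714)) (nat_lit 0) (nat_lit 5) = true := by decide +kernel
theorem ck_f1 : (Nat.ble cktl1.K 11 && Nat.blt (nat_lit 15) 714 && fixLetters ckth_P cktl1.K (nat_lit 15) && Nat.beq (ltAll 2 [nat_lit 0]) 0 && Nat.beq (apW ckx_P [nat_lit 0] (nat_lit 15)) (cktl1.Pt 0)) = true := by decide +kernel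
theorem wzp_f2 : (Nat.ble wzptl2.K 11 && Nat.blt (nat_lit 16) 714 && fixLetters wzpth_P wzptl2.K (nat_lit 16) && Nat.beq (ltAll 3 [nat_lit 0]) 0 && Nat.beq (apW wzpx_P [nat_lit 0] (nat_lit 16)) (wzptl2.Pt 0)) = true := by decide +kernel
theorem wzp_f1 : (Nat.ble wzptl1.K 11 && Nat.blt (nat_lit 16) 714 && fixLetters wzpth_P wzptl1.K (nat_lit 16) && Nat.beq (ltAll 3 [nat_lit 1]) 0 && Nat.beq (apW wzpx_P [nat_lit 1] (nat_lit 16)) (wzptl1.Pt 0)) = true := by decide +kernel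
theorem bzptn0_1_0 : allZ (bzptn0.ent Tm bzpth_P bzpx_P bzpx_P bzpe_P (nat_lit 6) (nat_lit 4) B1 bzptl5 [] (memO bzpc5)) (nat_lit 0) (nat_lit 4) = true := by decide +kernel
theorem cqt_f3 : (Nat.ble cqtl3.K 11 && Nat.ble (topK []) cqtl3.K && fixLetters cqth_P (topK []) (cqtl3.Pt 0)) = true := by decide +kernel
theorem cqt_f2 : (Nat.ble cqtl2.K 11 && Nat.ble (topK [cqtl3]) cqtl2.K && fixLetters cqth_P (topK [cqtl3]) (cqtl2.Pt 0)) = true := by decide +kernel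
theorem cqt_f1 : (Nat.ble cqtl1.K 11 && Nat.ble (topK [cqtl2, cqtl3]) cqtl1.K && fixLetters cqth_P (topK [cqtl2, cqtl3]) (cqtl1.Pt 0)) = true := by decide +kernel
theorem cqt_f0 : (Nat.ble cqtl0.K 11 && Nat.ble (topK [cqtl1, cqtl2, cqtl3]) cqtl0.K && fixLetters cqth_P (topK [cqtl1, cqtl2, cqtl3]) (cqtl0.Pt 0)) = true := by decide +kernel
theorem wwt_f2 : (Nat.ble wwtl2.K 11 && Nat.ble (topK []) wwtl2.K && fixLetters wwth_P (topK []) (wwtl2.Pt 0)) = true := by decide +kernel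
theorem wwt_f1 : (Nat.ble wwtl1.K 11 && Nat.ble (topK [wwtl2]) wwtl1.K && fixLetters wwth_P (topK [wwtl2]) (wwtl1.Pt 0)) = true := by decide +kernel
theorem wwt_f0 : (Nat.ble wwtl0.K 11 && Nat.ble (topK [wwtl1, wwtl2]) wwtl0.K && fixLetters wwth_P (topK [wwtl1, wwtl2]) (wwtl0.Pt 0)) = true := by decide +kernel
theorem cltn6_1_0 : allZ (cltn6.ent Tm clth_P clx_P cltn5y163_P cltr6k_P (nat_lit 5) (nat_lit 1) B1 cltl1 [cltl2, cltl3, cltl4, cltl5, cltl6] (fun _ => nat_lit 1)) (nat_lit 0) (nat_lit 4) = true := by decide +kernel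
theorem ckt_f1 : (Nat.ble cktl1.K 11 && Nat.ble (topK []) cktl1.K && fixLetters ckth_P (topK []) (cktl1.Pt 0)) = true := by decide +kernel
theorem ckt_f0 : (Nat.ble cktl0.K 11 && Nat.ble (topK [cktl1]) cktl0.K && fixLetters ckth_P (topK [cktl1]) (cktl0.Pt 0)) = true := by decide +kernel
theorem cp_f4 : (Nat.ble cptl4.K 10 && Nat.blt (nat_lit 20) 714 && fixLetters cpth_P cptl4.K (nat_lit 20) && Nat.beq (ltAll 1 [nat_lit 0]) 0 && Nat.beq (apW cpx_P [nat_lit 0] (nat_lit 20)) (cptl4.Pt 0)) = true := by decide +kernel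
theorem cp_f1 : (Nat.ble cptl1.K 10 && Nat.blt (nat_lit 0) 714 && fixLetters cpth_P cptl1.K (nat_lit 0) && Nat.beq (ltAll 1 [nat_lit 0]) 0 && Nat.beq (apW cpx_P [nat_lit 0] (nat_lit 0)) (cptl1.Pt 0)) = true := by decide +kernel
theorem cftn4_1_0 : allZ (cftn4.ent Tm cfth_P cfx_P cftn3y114_P cftr4k_P (nat_lit 6) (nat_lit 1) B1 cftl6 [cftl7] (fun _ => nat_lit 1)) (nat_lit 0) (nat_lit 2) = true := by decide +kernel
theorem wzpt_f3 : (Nat.ble wzptl3.K 11 && Nat.ble (topK []) wzptl3.K && fixLetters wzpth_P (topK []) (wzptl3.Pt 0)) = true := by decide +kernel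
theorem wzpt_f2 : (Nat.ble wzptl2.K 11 && Nat.ble (topK [wzptl3]) wzptl2.K && fixLetters wzpth_P (topK [wzptl3]) (wzptl2.Pt 0)) = true := by decide +kernel
theorem wzpt_f1 : (Nat.ble wzptl1.K 11 && Nat.ble (topK [wzptl2, wzptl3]) wzptl1.K && fixLetters wzpth_P (topK [wzptl2, wzptl3]) (wzptl1.Pt 0)) = true := by decide +kernel
theorem wzpt_f0 : (Nat.ble wzptl0.K 11 && Nat.ble (topK [wzptl1, wzptl2, wzptl3]) wzptl0.K && fixLetters wzpth_P (topK [wzptl1, wzptl2, wzptl3]) (wzptl0.Pt 0)) = true := by decide +kernel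
theorem cn_f2 : (Nat.ble cntl2.K 9 && Nat.blt (nat_lit 26) 714 && fixLetters cnth_P cntl2.K (nat_lit 26) && Nat.beq (ltAll 2 [nat_lit 0]) 0 && Nat.beq (apW cnx_P [nat_lit 0] (nat_lit 26)) (cntl2.Pt 0)) = true := by decide +kernel
theorem tl1_e_0 : allZ (dent tl1 (wdsP tP te) (nat_lit 336)) (nat_lit 0) (nat_lit 3) = true := by decide +kernel
theorem cpt_f6 : (Nat.ble cptl6.K 10 && Nat.ble (topK []) cptl6.K && fixLetters cpth_P (topK []) (cptl6.Pt 0)) = true := by decide +kernel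
theorem cpt_f5 : (Nat.ble cptl5.K 10 && Nat.ble (topK [cptl6]) cptl5.K && fixLetters cpth_P (topK [cptl6]) (cptl5.Pt 0)) = true := by decide +kernel
theorem cpt_f4 : (Nat.ble cptl4.K 10 && Nat.ble (topK [cptl5, cptl6]) cptl4.K && fixLetters cpth_P (topK [cptl5, cptl6]) (cptl4.Pt 0)) = true := by decide +kernel
theorem cpt_f3 : (Nat.ble cptl3.K 10 && Nat.ble (topK [cptl4, cptl5, cptl6]) cptl3.K && fixLetters cpth_P (topK [cptl4, cptl5, cptl6]) (cptl3.Pt 0)) = true := by decide +kernel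
theorem cpt_f2 : (Nat.ble cptl2.K 10 && Nat.ble (topK [cptl3, cptl4, cptl5, cptl6]) cptl2.K && fixLetters cpth_P (topK [cptl3, cptl4, cptl5, cptl6]) (cptl2.Pt 0)) = true := by decide +kernel
theorem cpt_f1 : (Nat.ble cptl1.K 10 && Nat.ble (topK [cptl2, cptl3, cptl4, cptl5, cptl6]) cptl1.K && fixLetters cpth_P (topK [cptl2, cptl3, cptl4, cptl5, cptl6]) (cptl1.Pt 0)) = true := by decide +kernel
theorem cpt_f0 : (Nat.ble cptl0.K 10 && Nat.ble (topK [cptl1, cptl2, cptl3, cptl4, cptl5, cptl6]) cptl0.K && fixLetters cpth_P (topK [cptl1, cptl2, cptl3, cptl4, cptl5, cptl6]) (cptl0.Pt 0)) = true := by decide +kernel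
theorem cnt_f4 : (Nat.ble cntl4.K 9 && Nat.ble (topK []) cntl4.K && fixLetters cnth_P (topK []) (cntl4.Pt 0)) = true := by decide +kernel
theorem cnt_f3 : (Nat.ble cntl3.K 9 && Nat.ble (topK [cntl4]) cntl3.K && fixLetters cnth_P (topK [cntl4]) (cntl3.Pt 0)) = true := by decide +kernel
theorem cnt_f2 : (Nat.ble cntl2.K 9 && Nat.ble (topK [cntl3, cntl4]) cntl2.K && fixLetters cnth_P (topK [cntl3, cntl4]) (cntl2.Pt 0)) = true := by decide +kernel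
theorem cnt_f1 : (Nat.ble cntl1.K 9 && Nat.ble (topK [cntl2, cntl3, cntl4]) cntl1.K && fixLetters cnth_P (topK [cntl2, cntl3, cntl4]) (cntl1.Pt 0)) = true := by decide +kernel
theorem cnt_f0 : (Nat.ble cntl0.K 9 && Nat.ble (topK [cntl1, cntl2, cntl3, cntl4]) cntl0.K && fixLetters cnth_P (topK [cntl1, cntl2, cntl3, cntl4]) (cntl0.Pt 0)) = true := by decide +kernel
theorem cltn4_1_0 : allZ (cltn4.ent Tm clth_P clx_P clx_P cle_P (nat_lit 5) (nat_lit 1) B1 cltl1 [cltl2, cltl3, cltl4, cltl5, cltl6] (memO clc1)) (nat_lit 0) (nat_lit 4) = true := by decide +kernel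
theorem zltl2_e_0 : allZ (dent zltl2 zlth_P (nat_lit 714)) (nat_lit 0) (nat_lit 3) = true := by decide +kernel
theorem cntn4_1_0 : allZ (cntn4.ent Tm cnth_P cnx_P cntn3y1_P cntr4k_P (nat_lit 5) (nat_lit 2) B1 cntl4 [] (fun _ => nat_lit 1)) (nat_lit 0) (nat_lit 2) = true := by decide +kernel
theorem me5 : 1 < 56 ∧ ltAll 4 [nat_lit 0, nat_lit 2, nat_lit 0, nat_lit 2] = 0 ∧ sumL (fun β => Nat.xor ((wdsP Tm wW) 1 β) (apW Tm [nat_lit 0, nat_lit 2, nat_lit 0, nat_lit 2] β)) B1 = 0 := by decide +kernel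
theorem cntn8_1_0 : allZ (cntn8.ent Tm cnth_P cnx_P cntn7y1_P cntr8k_P (nat_lit 5) (nat_lit 2) B1 cntl4 [] (fun _ => nat_lit 1)) (nat_lit 0) (nat_lit 2) = true := by decide +kernel
theorem cqtl1_e_0 : allZ (dent cqtl1 cqth_P (nat_lit 714)) (nat_lit 0) (nat_lit 3) = true := by decide +kernel
theorem wb1tl2_e_0 : allZ (dent wb1tl2 wb1th_P (nat_lit 714)) (nat_lit 0) (nat_lit 3) = true := by decide +kernel
theorem cntn10_1_0 : allZ (cntn10.ent Tm cnth_P cnx_P cntn9y1_P cntr10k_P (nat_lit 5) (nat_lit 2) B1 cntl4 [] (fun _ => nat_lit 1)) (nat_lit 0) (nat_lit 2) = true := by decide +kernel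
theorem n3tl2_e_0 : allZ (dent n3tl2 n3th_P (nat_lit 714)) (nat_lit 0) (nat_lit 3) = true := by decide +kernel
theorem cltl2_e_0 : allZ (dent cltl2 clth_P (nat_lit 714)) (nat_lit 0) (nat_lit 3) = true := by decide +kernel
theorem bwc0_e_0 : allZ (dent bwc0 bwe_P (nat_lit 714)) (nat_lit 0) (nat_lit 3) = true := by decide +kernel
theorem wb2c0_e_0 : allZ (dent wb2c0 wb2e_P (nat_lit 714)) (nat_lit 0) (nat_lit 3) = true := by decide +kernel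
theorem bzptl3_e_0 : allZ (dent bzptl3 bzpth_P (nat_lit 714)) (nat_lit 0) (nat_lit 3) = true := by decide +kernel
theorem n3c0_e_0 : allZ (dent n3c0 n3e_P (nat_lit 714)) (nat_lit 0) (nat_lit 3) = true := by decide +kernel
theorem clc2_e_0 : allZ (dent clc2 cle_P (nat_lit 714)) (nat_lit 0) (nat_lit 3) = true := by decide +kernel
theorem wwc0_e_0 : allZ (dent wwc0 wwe_P (nat_lit 714)) (nat_lit 0) (nat_lit 3) = true := by decide +kernel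
theorem wb2tl5_e_0 : allZ (dent wb2tl5 wb2th_P (nat_lit 714)) (nat_lit 0) (nat_lit 3) = true := by decide +kernel
theorem zlc0_e_0 : allZ (dent zlc0 zle_P (nat_lit 714)) (nat_lit 0) (nat_lit 3) = true := by decide +kernel
theorem cftn2_1_0 : allZ (cftn2.ent Tm cfth_P cfx_P cftn1y60_P cftr2k_P (nat_lit 6) (nat_lit 1) B1 cftl7 [] (fun _ => nat_lit 1)) (nat_lit 0) (nat_lit 2) = true := by decide +kernel
theorem cttl2_e_0 : allZ (dent cttl2 ctth_P (nat_lit 714)) (nat_lit 0) (nat_lit 3) = true := by decide +kernel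
theorem cnc1_e_0 : allZ (dent cnc1 cne_P (nat_lit 714)) (nat_lit 0) (nat_lit 3) = true := by decide +kernel
theorem bwtl5_e_0 : allZ (dent bwtl5 bwth_P (nat_lit 714)) (nat_lit 0) (nat_lit 3) = true := by decide +kernel
theorem cvtl2_e_0 : allZ (dent cvtl2 cvth_P (nat_lit 714)) (nat_lit 0) (nat_lit 3) = true := by decide +kernel
theorem n3tl3_e_0 : allZ (dent n3tl3 n3th_P (nat_lit 714)) (nat_lit 0) (nat_lit 3) = true := by decide +kernel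
theorem cltl3_e_0 : allZ (dent cltl3 clth_P (nat_lit 714)) (nat_lit 0) (nat_lit 3) = true := by decide +kernel
theorem n3c3_e_0 : allZ (dent n3c3 n3e_P (nat_lit 714)) (nat_lit 0) (nat_lit 3) = true := by decide +kernel
theorem bwtl2_e_0 : allZ (dent bwtl2 bwth_P (nat_lit 714)) (nat_lit 0) (nat_lit 3) = true := by decide +kernel
theorem n3tn0_1_0 : allZ (n3tn0.ent Tm n3th_P n3x_P n3x_P n3e_P (nat_lit 6) (nat_lit 6) B1 n3tl3 [n3tl4] (memO n3c3)) (nat_lit 0) (nat_lit 4) = true := by decide +kernel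
theorem cltn3_1_0 : allZ (cltn3.ent Tm clth_P clx_P clx_P cle_P (nat_lit 5) (nat_lit 1) B1 cltl2 [cltl3, cltl4, cltl5, cltl6] (memO clc2)) (nat_lit 0) (nat_lit 4) = true := by decide +kernel
theorem wzpc0_e_0 : allZ (dent wzpc0 wzpe_P (nat_lit 714)) (nat_lit 0) (nat_lit 3) = true := by decide +kernel
theorem bzptl2_e_0 : allZ (dent bzptl2 bzpth_P (nat_lit 714)) (nat_lit 0) (nat_lit 3) = true := by decide +kernel
theorem cltl1_e_0 : allZ (dent cltl1 clth_P (nat_lit 714)) (nat_lit 0) (nat_lit 3) = true := by decide +kernel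
theorem bzptl5_e_0 : allZ (dent bzptl5 bzpth_P (nat_lit 714)) (nat_lit 0) (nat_lit 3) = true := by decide +kernel
theorem cpc0_e_0 : allZ (dent cpc0 cpe_P (nat_lit 714)) (nat_lit 0) (nat_lit 2) = true := by decide +kernel
theorem bzpc0_e_0 : allZ (dent bzpc0 bzpe_P (nat_lit 714)) (nat_lit 0) (nat_lit 3) = true := by decide +kernel
theorem pfl0_e_0 : allZ (dent pfl0 (wdsP pfP pfe) (nat_lit 12)) (nat_lit 0) (nat_lit 2) = true := by decide +kernel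
theorem cftn0_1_0 : allZ (cftn0.ent Tm cfth_P cfx_P cfx_P cfe_P (nat_lit 6) (nat_lit 1) B1 cftl7 [] (memO cfc7)) (nat_lit 0) (nat_lit 2) = true := by decide +kernel
theorem cftn5_1_0 : allZ (cftn5.ent Tm cfth_P cfx_P cfx_P cfe_P (nat_lit 6) (nat_lit 1) B1 cftl3 [cftl4, cftl5, cftl6, cftl7] (memO cfc3)) (nat_lit 0) (nat_lit 2) = true := by decide +kernel
theorem cftn6_1_0 : allZ (cftn6.ent Tm cfth_P cfx_P cfx_P cfe_P (nat_lit 6) (nat_lit 1) B1 cftl2 [cftl3, cftl4, cftl5, cftl6, cftl7] (memO cfc2)) (nat_lit 0) (nat_lit 2) = true := by decide +kernel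
theorem cltn0_1_0 : allZ (cltn0.ent Tm clth_P clx_P clx_P cle_P (nat_lit 5) (nat_lit 1) B1 cltl6 [] (memO clc6)) (nat_lit 0) (nat_lit 2) = true := by decide +kernel
theorem cltn1_1_0 : allZ (cltn1.ent Tm clth_P clx_P clx_P cle_P (nat_lit 5) (nat_lit 1) B1 cltl5 [cltl6] (memO clc5)) (nat_lit 0) (nat_lit 2) = true := by decide +kernel
theorem cltn2_1_0 : allZ (cltn2.ent Tm clth_P clx_P clx_P cle_P (nat_lit 5) (nat_lit 1) B1 cltl4 [cltl5, cltl6] (memO clc4)) (nat_lit 0) (nat_lit 2) = true := by decide +kernel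
theorem cntn0_1_0 : allZ (cntn0.ent Tm cnth_P cnx_P cnx_P cne_P (nat_lit 5) (nat_lit 2) B1 cntl4 [] (memO cnc4)) (nat_lit 0) (nat_lit 2) = true := by decide +kernel
theorem cntn1_1_0 : allZ (cntn1.ent Tm cnth_P cnx_P cnx_P cne_P (nat_lit 5) (nat_lit 2) B1 cntl3 [cntl4] (memO cnc3)) (nat_lit 0) (nat_lit 2) = true := by decide +kernel
theorem cptn0_1_0 : allZ (cptn0.ent Tm cpth_P cpx_P cpx_P cpe_P (nat_lit 5) (nat_lit 1) B1 cptl6 [] (memO cpc6)) (nat_lit 0) (nat_lit 2) = true := by decide +kernel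
theorem cptn1_1_0 : allZ (cptn1.ent Tm cpth_P cpx_P cpx_P cpe_P (nat_lit 5) (nat_lit 1) B1 cptl3 [cptl4, cptl5, cptl6] (memO cpc3)) (nat_lit 0) (nat_lit 2) = true := by decide +kernel
theorem cptn2_1_0 : allZ (cptn2.ent Tm cpth_P cpx_P cpx_P cpe_P (nat_lit 5) (nat_lit 1) B1 cptl2 [cptl3, cptl4, cptl5, cptl6] (memO cpc2)) (nat_lit 0) (nat_lit 2) = true := by decide +kernel
theorem cvtn0_1_0 : allZ (cvtn0.ent Tm cvth_P cvx_P cvx_P cve_P (nat_lit 6) (nat_lit 2) B1 cvtl3 [cvtl4, cvtl5, cvtl6] (memO cvc3)) (nat_lit 0) (nat_lit 2) = true := by decide +kernel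
theorem cftl2_e_0 : allZ (dent cftl2 cfth_P (nat_lit 714)) (nat_lit 0) (nat_lit 1) = true := by decide +kernel
theorem cfc2_e_0 : allZ (dent cfc2 cfe_P (nat_lit 714)) (nat_lit 0) (nat_lit 1) = true := by decide +kernel
theorem cltl4_e_0 : allZ (dent cltl4 clth_P (nat_lit 714)) (nat_lit 0) (nat_lit 1) = true := by decide +kernel
theorem clc4_e_0 : allZ (dent clc4 cle_P (nat_lit 714)) (nat_lit 0) (nat_lit 1) = true := by decide +kernel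
theorem cntl4_e_0 : allZ (dent cntl4 cnth_P (nat_lit 714)) (nat_lit 0) (nat_lit 1) = true := by decide +kernel
theorem cnc4_e_0 : allZ (dent cnc4 cne_P (nat_lit 714)) (nat_lit 0) (nat_lit 1) = true := by decide +kernel
theorem cqtl3_e_0 : allZ (dent cqtl3 cqth_P (nat_lit 714)) (nat_lit 0) (nat_lit 1) = true := by decide +kernel
theorem cvtl6_e_0 : allZ (dent cvtl6 cvth_P (nat_lit 714)) (nat_lit 0) (nat_lit 1) = true := by decide +kernel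
theorem cntl3_e_0 : allZ (dent cntl3 cnth_P (nat_lit 714)) (nat_lit 0) (nat_lit 1) = true := by decide +kernel
theorem cnc3_e_0 : allZ (dent cnc3 cne_P (nat_lit 714)) (nat_lit 0) (nat_lit 1) = true := by decide +kernel
theorem cftl3_e_0 : allZ (dent cftl3 cfth_P (nat_lit 714)) (nat_lit 0) (nat_lit 1) = true := by decide +kernel
theorem n3tl1_e_0 : allZ (dent n3tl1 n3th_P (nat_lit 714)) (nat_lit 0) (nat_lit 1) = true := by decide +kernel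
theorem zltl1_e_0 : allZ (dent zltl1 zlth_P (nat_lit 714)) (nat_lit 0) (nat_lit 1) = true := by decide +kernel
theorem n3tl4_e_0 : allZ (dent n3tl4 n3th_P (nat_lit 714)) (nat_lit 0) (nat_lit 1) = true := by decide +kernel
theorem wb2tl3_e_0 : allZ (dent wb2tl3 wb2th_P (nat_lit 714)) (nat_lit 0) (nat_lit 1) = true := by decide +kernel
theorem cfc3_e_0 : allZ (dent cfc3 cfe_P (nat_lit 714)) (nat_lit 0) (nat_lit 1) = true := by decide +kernel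
theorem cltl5_e_0 : allZ (dent cltl5 clth_P (nat_lit 714)) (nat_lit 0) (nat_lit 1) = true := by decide +kernel
theorem clc5_e_0 : allZ (dent clc5 cle_P (nat_lit 714)) (nat_lit 0) (nat_lit 1) = true := by decide +kernel
theorem cptl2_e_0 : allZ (dent cptl2 cpth_P (nat_lit 714)) (nat_lit 0) (nat_lit 1) = true := by decide +kernel
theorem tl2_e_0 : allZ (dent tl2 (wdsP tP te) (nat_lit 336)) (nat_lit 0) (nat_lit 1) = true := by decide +kernel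
theorem pf_f0 : (Nat.ble pfl0.K 12 && Nat.ble (topK []) pfl0.K && fixLetters (wdsP pfP pfe) (topK []) (pfl0.Pt 0)) = true := by decide +kernel
theorem cpc2_e_0 : allZ (dent cpc2 cpe_P (nat_lit 714)) (nat_lit 0) (nat_lit 1) = true := by decide +kernel
theorem wb1tl3_e_0 : allZ (dent wb1tl3 wb1th_P (nat_lit 714)) (nat_lit 0) (nat_lit 1) = true := by decide +kernel
theorem cptl3_e_0 : allZ (dent cptl3 cpth_P (nat_lit 714)) (nat_lit 0) (nat_lit 1) = true := by decide +kernel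
theorem cpc3_e_0 : allZ (dent cpc3 cpe_P (nat_lit 714)) (nat_lit 0) (nat_lit 1) = true := by decide +kernel
theorem bzptl4_e_0 : allZ (dent bzptl4 bzpth_P (nat_lit 714)) (nat_lit 0) (nat_lit 1) = true := by decide +kernel
theorem bwtl4_e_0 : allZ (dent bwtl4 bwth_P (nat_lit 714)) (nat_lit 0) (nat_lit 1) = true := by decide +kernel
theorem clc1_e_0 : allZ (dent clc1 cle_P (nat_lit 714)) (nat_lit 0) (nat_lit 1) = true := by decide +kernel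
theorem bzpc5_e_0 : allZ (dent bzpc5 bzpe_P (nat_lit 714)) (nat_lit 0) (nat_lit 1) = true := by decide +kernel
theorem bwc5_e_0 : allZ (dent bwc5 bwe_P (nat_lit 714)) (nat_lit 0) (nat_lit 1) = true := by decide +kernel
theorem wb2c5_e_0 : allZ (dent wb2c5 wb2e_P (nat_lit 714)) (nat_lit 0) (nat_lit 1) = true := by decide +kernel
theorem cftl7_e_0 : allZ (dent cftl7 cfth_P (nat_lit 714)) (nat_lit 0) (nat_lit 1) = true := by decide +kernel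
theorem cfc7_e_0 : allZ (dent cfc7 cfe_P (nat_lit 714)) (nat_lit 0) (nat_lit 1) = true := by decide +kernel
theorem ctc0_e_0 : allZ (dent ctc0 cte_P (nat_lit 714)) (nat_lit 0) (nat_lit 1) = true := by decide +kernel
theorem ckc0_e_0 : allZ (dent ckc0 cke_P (nat_lit 714)) (nat_lit 0) (nat_lit 1) = true := by decide +kernel
theorem cltl6_e_0 : allZ (dent cltl6 clth_P (nat_lit 714)) (nat_lit 0) (nat_lit 1) = true := by decide +kernel
theorem clc6_e_0 : allZ (dent clc6 cle_P (nat_lit 714)) (nat_lit 0) (nat_lit 1) = true := by decide +kernel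
theorem cqc0_e_0 : allZ (dent cqc0 cqe_P (nat_lit 714)) (nat_lit 0) (nat_lit 1) = true := by decide +kernel
theorem cvc3_e_0 : allZ (dent cvc3 cve_P (nat_lit 714)) (nat_lit 0) (nat_lit 1) = true := by decide +kernel
theorem wzptl2_e_0 : allZ (dent wzptl2 wzpth_P (nat_lit 714)) (nat_lit 0) (nat_lit 1) = true := by decide +kernel
theorem cvtl4_e_0 : allZ (dent cvtl4 cvth_P (nat_lit 714)) (nat_lit 0) (nat_lit 1) = true := by decide +kernel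
theorem bwtl3_e_0 : allZ (dent bwtl3 bwth_P (nat_lit 714)) (nat_lit 0) (nat_lit 1) = true := by decide +kernel
theorem cftl4_e_0 : allZ (dent cftl4 cfth_P (nat_lit 714)) (nat_lit 0) (nat_lit 1) = true := by decide +kernel
theorem cvtl3_e_0 : allZ (dent cvtl3 cvth_P (nat_lit 714)) (nat_lit 0) (nat_lit 1) = true := by decide +kernel
theorem cftl6_e_0 : allZ (dent cftl6 cfth_P (nat_lit 714)) (nat_lit 0) (nat_lit 1) = true := by decide +kernel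
theorem cptl5_e_0 : allZ (dent cptl5 cpth_P (nat_lit 714)) (nat_lit 0) (nat_lit 1) = true := by decide +kernel
theorem cvtl5_e_0 : allZ (dent cvtl5 cvth_P (nat_lit 714)) (nat_lit 0) (nat_lit 1) = true := by decide +kernel
theorem wzptl3_e_0 : allZ (dent wzptl3 wzpth_P (nat_lit 714)) (nat_lit 0) (nat_lit 1) = true := by decide +kernel
theorem wb2tl4_e_0 : allZ (dent wb2tl4 wb2th_P (nat_lit 714)) (nat_lit 0) (nat_lit 1) = true := by decide +kernel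
theorem cftl5_e_0 : allZ (dent cftl5 cfth_P (nat_lit 714)) (nat_lit 0) (nat_lit 1) = true := by decide +kernel
theorem cptl4_e_0 : allZ (dent cptl4 cpth_P (nat_lit 714)) (nat_lit 0) (nat_lit 1) = true := by decide +kernel
theorem cptl6_e_0 : allZ (dent cptl6 cpth_P (nat_lit 714)) (nat_lit 0) (nat_lit 1) = true := by decide +kernel
theorem cpc6_e_0 : allZ (dent cpc6 cpe_P (nat_lit 714)) (nat_lit 0) (nat_lit 1) = true := by decide +kernel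
theorem pf_p : allZ2 (pcEnt pfP (nat_lit 3) pfB pfC) 1 1 = true := by decide +kernel

end H15.NS.He
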